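import Cfsg.Agent.Lib.Blocks.FreeInertia.Glue
import Cfsg.Agent.Lib.Blocks.CyclicBlock
import Mathlib.Tactic.NormNum.Prime

/-!
# Counting characters for a free inertial action on an abelian defect group

`Hyp.counts`: `k(B) = l(B) + m`, `l(B) ≤ e`, with equality for `e ≤ 3`; here `e` is the inertial index and
`m = (|P| - 1) / e`.
-/

set_option autoImplicit false
set_option maxHeartbeats 2000000

noncomputable section

namespace CfsgLib.Blocks.FreeInertia

open Cfsg CfsgLib.Blocks CfsgLib.BlockArith CfsgLib.Char CfsgLib.BrauerPairs CfsgLib.NilBlock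
open scoped ComplexConjugate Classical

universe u

variable {G : Type u} [Group G] [Fintype G] {p : ℕ} [hp : Fact p.Prime] {M : Ideal AlgInt} [M.IsMaximal]
  {B : Set (IrrCharacter G)} {P : Subgroup G} {c : Set (IrrCharacter (Cen P))}

/-- The exceptional configurations occur only for cyclic defect groups. -/
theorem prime_of_config {p d e m : ℕ} (hp : p.Prime) (h : p ^ d = e * m + 1) (he2 : e ≤ 3)
    (hm3 : 3 ≤ m) (hme : m ≤ e + 1) : d = 1 := by
  have hd : d ≠ 0 := by
    rintro rfl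
    rw [pow_zero] at h
    have : 1 ≤ e := by omega
    nlinarith
  by_contra hd1
  have h4 : p * p ∣ e * m + 1 := by
    rw [← h, ← sq]
    exact pow_dvd_pow p (by omega)
  have hle := Nat.le_of_dvd (by omega) h4
  have hp2 := hp.two_le
  have hp3 : p ≤ 4 := by nlinarith
  interval_cases p <;> interval_cases e <;> interval_cases m <;>
    first | exact absurd hp (by decide) | omega | (revert h4; decide)

variable (D : Hyp p M B P c)
include D

/-- **The counts.** -/
theorem Hyp.counts : ∃ m : ℕ, m * (Cen P).relIndex (stab M P c) = Nat.card P - 1 ∧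
    0 < (Cen P).relIndex (stab M P c) ∧ Nat.card B = blockRank p B + m ∧
    blockRank p B ≤ (Cen P).relIndex (stab M P c) ∧
    ((Cen P).relIndex (stab M P c) ≤ 3 → blockRank p B = (Cen P).relIndex (stab M P c)) := by
  have hM := D.hM
  have hmax := D.hmax
  have hab := D.hab
  have hne := D.hne
  have hB := hmax.1.2.1
  have habP := D.comm
  obtain ⟨β, hβd⟩ : ∃ β : (y : P) → Set (IrrCharacter (Cen (Subgroup.zpowers (y : G)))),
      β = fun y : P => D.bR (Subgroup.zpowers (y : G)) := ⟨_, rfl⟩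
  have hzle : ∀ y : P, Subgroup.zpowers (y : G) ≤ P := fun y => Subgroup.zpowers_le.mpr y.2
  have hzne : ∀ y : P, y ≠ 1 → Subgroup.zpowers (y : G) ≠ ⊥ := fun y hy =>
    Subgroup.zpowers_ne_bot.mpr fun h => hy (Subtype.ext h)
  have hβ : ∀ y : P, SubpairLE p M (Subgroup.zpowers (y : G)) (β y) P c := fun y => by
    subst hβd; exact D.bR_le (hzle y)
  have hpair : ∀ y : P, IsBrauerPairOf p M B (Subgroup.zpowers (y : G)) (β y) := fun y =>
    (brauerPairOf_iff_of_subpair hM (a := ⟨_, β y⟩) (b := ⟨P, c⟩) (hβ y)).mp hmax.1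
  have hord : ∀ y : P, ∃ k : ℕ, orderOf (y : G) = p ^ k := fun y => exists_pow_of_mem D.isPGroup y.2
  have hblk : ∀ y : P, IsPBlock M (β y) := fun y => (hpair y).1.2
  have hind : ∀ y : P, IsInducedBlock M (Cen (Subgroup.zpowers (y : G))) (β y) B := fun y => by
    let _ := Fintype.ofFinite (Cen (Subgroup.zpowers (y : G)))
    exact (brauerPairOf_iff_induced hM (hpair y).1.1 (hblk y) hB).mp (hpair y)
  have hcardP : Nat.card P = p ^ blockDefect p B :=
    card_defectGroup hM hB (isDefectGroup_of_maximal hM hmax)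
  have hdef : ∀ y : P, blockDefect p (β y) = blockDefect p B := fun y => by
    subst hβd; exact D.bR_defect (hzle y)
  have hrank : ∀ y : P, y ≠ 1 → blockRank p (β y) = 1 := fun y hy => by
    subst hβd
    exact (inertOne_counts hM _ _ (D.bR (Subgroup.zpowers (y : G))) rfl (D.bR_block (hzle y))
      (D.bR_inertOne (hzle y) (hzne y hy))).1
  -- the group of automorphisms
  let φ : stab M P c →* MulAut P :=
    { toFun := fun t =>
        { toFun := fun y => ⟨(t : G) * y * (t : G)⁻¹, (Subgroup.mem_set_normalizer_iff.mp t.2.1 _).mp y.2⟩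
          invFun := fun y => ⟨(t : G)⁻¹ * y * (t : G), (Subgroup.mem_set_normalizer_iff''.mp t.2.1 _).mp y.2⟩
          left_inv := fun y => Subtype.ext (by simp [mul_assoc])
          right_inv := fun y => Subtype.ext (by simp [mul_assoc])
          map_mul' := fun y z => Subtype.ext (by simp [mul_assoc]) }
      map_one' := MulEquiv.ext fun y => Subtype.ext (by simp)
      map_mul' := fun t t' => MulEquiv.ext fun y => Subtype.ext (by simp [mul_assoc]) }
  have hφ : ∀ (t : stab M P c) (y : P), ((φ t y : P) : G) = (t : G) * y * (t : G)⁻¹ := fun t y => rfl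
  have hker : φ.ker = (Cen P).subgroupOf (stab M P c) := by
    ext t
    rw [MonoidHom.mem_ker, Subgroup.mem_subgroupOf, Subgroup.mem_centralizer_iff]
    refine ⟨fun h z hz => ?_, fun h => MulEquiv.ext fun y => Subtype.ext ?_⟩
    · have h1 := congrArg Subtype.val (DFunLike.congr_fun h (⟨z, hz⟩ : P))
      rw [hφ] at h1
      exact (mul_inv_eq_iff_eq_mul.mp h1).symm
    · rw [hφ, ← h y y.2, mul_inv_cancel_right]; rfl
  obtain ⟨A, hAd⟩ : ∃ A : Subgroup (MulAut P), A = φ.range := ⟨_, rfl⟩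
  have hcardA : Nat.card A = (Cen P).relIndex (stab M P c) := by
    rw [hAd, ← Subgroup.index_ker, hker]; rfl
  have hAT : ∀ a ∈ A, ∃ t ∈ stab M P c, ∀ y : P, ((a y : P) : G) = t * (y : G) * t⁻¹ := fun a ha => by
    rw [hAd] at ha
    obtain ⟨t, rfl⟩ := ha
    exact ⟨t, t.2, fun y => rfl⟩
  have hTA : ∀ t ∈ stab M P c, ∃ a ∈ A, ∀ y : P, ((a y : P) : G) = t * (y : G) * t⁻¹ := fun t ht =>
    ⟨φ ⟨t, ht⟩, hAd ▸ ⟨_, rfl⟩, fun y => rfl⟩
  have hAfree : ∀ a ∈ A, ∀ y : P, y ≠ 1 → a y = y → a = 1 := fun a ha y hy hfix => by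
    obtain ⟨t, ht, hat⟩ := hAT a ha
    have htC := D.hfree t ht (y : G) y.2 (fun h => hy (Subtype.ext h)) (by rw [← hat, hfix])
    exact MulEquiv.ext fun z => Subtype.ext (by
      rw [hat, ← Subgroup.mem_centralizer_iff.mp htC z z.2, mul_inv_cancel_right]; rfl)
  let _ := Fintype.ofFinite A
  obtain ⟨e, hed⟩ : ∃ e : ℕ, e = (Cen P).relIndex (stab M P c) := ⟨_, rfl⟩
  rw [← hed]
  have hFe : Fintype.card A = e := by rw [← Nat.card_eq_fintype_card, hcardA, hed]
  obtain ⟨Θ, hΘnt, hΘcard, hΘcov, hΘuniq⟩ := CyclicOrbits.exists_irr_reps habP hAfree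
  rw [hFe] at hΘcard
  have hP2 : 2 ≤ Nat.card P := Subgroup.one_lt_card_iff_ne_bot P |>.mpr hne
  have hepos : 0 < e := Nat.pos_of_ne_zero fun h => by rw [h, mul_zero] at hΘcard; omega
  have hΘne : Θ.Nonempty := Finset.card_pos.mp (Nat.pos_of_ne_zero fun h => by
    rw [h, zero_mul] at hΘcard; omega)
  have hd0 : blockDefect p B ≠ 0 := fun h => by rw [h, pow_zero] at hcardP; omega
  have hep : ¬ p ∣ e := fun h => by
    have h1 : p ∣ Nat.card P - 1 := hΘcard ▸ h.mul_left _
    have h2 : p ∣ Nat.card P := hcardP ▸ dvd_pow_self p hd0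
    have h3 := Nat.dvd_sub h2 h1
    rw [show Nat.card P - (Nat.card P - 1) = 1 by omega] at h3
    exact hp.out.not_dvd_one h3
  -- the count
  obtain ⟨R₀, hR₀, hR₀card, hR₀cov, hR₀uniq⟩ := CyclicOrbits.exists_orbit_reps (A := A) {y : P | y ≠ 1}
    (fun a y hy h => hy ((map_eq_one_iff _ (a : MulAut P).injective).mp h))
    (fun y hy a h => Subtype.ext (hAfree _ a.2 y hy h))
  have hcard1 : Nat.card {y : P | y ≠ 1} = Nat.card P - 1 := by
    rw [show {y : P | y ≠ 1} = ((Finset.univ.erase 1 : Finset P) : Set P) from by ext; simp,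
      Nat.card_coe_set_eq, Set.ncard_coe_finset, Finset.card_erase_of_mem (Finset.mem_univ _), Finset.card_univ,
      Nat.card_eq_fintype_card]
  rw [hFe, hcard1] at hR₀card
  have hRΘ : R₀.card = Θ.card := Nat.eq_of_mul_eq_mul_right hepos (hR₀card.trans hΘcard.symm)
  have hkl : Nat.card B = blockRank p B + Θ.card := by
    obtain ⟨F, hFd⟩ : ∃ F : G → BrauerPairIdx G, F = fun r =>
        if h : r ∈ P then ⟨Subgroup.zpowers r, β ⟨r, h⟩⟩ else ⟨⊥, ∅⟩ := ⟨_, rfl⟩
    have h1R : (1 : G) ∉ R₀.map ⟨Subtype.val, Subtype.val_injective⟩ := fun h => by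
      obtain ⟨r, hr, hr1⟩ := Finset.mem_map.mp h
      exact hR₀ hr (Subtype.ext hr1)
    have hRP : ∀ r ∈ insert (1 : G) (R₀.map ⟨Subtype.val, Subtype.val_injective⟩), r ∈ P := fun r hr => by
      rcases Finset.mem_insert.mp hr with rfl | h
      · exact P.one_mem
      · obtain ⟨z, -, rfl⟩ := Finset.mem_map.mp h
        exact z.2
    have hsum := card_eq_sum_orbits hM hmax hab (insert (1 : G) (R₀.map ⟨Subtype.val, Subtype.val_injective⟩)) hRP
      (fun y hy => ?_) (fun r hr r' hr' t ht h => ?_) F (fun r hr => ?_)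
    · rw [hsum, Finset.sum_insert h1R, Finset.sum_map, ← hRΘ, Finset.card_eq_sum_ones R₀]
      congr 1
      · rw [hFd]; beta_reduce
        rw [dif_pos P.one_mem]
        exact pairRank_top (Subgroup.centralizer_eq_top_iff_subset.mpr (by
          show ((Subgroup.zpowers (1 : G) : Subgroup G) : Set G) ⊆ _
          rw [Subgroup.zpowers_one_eq_bot]; exact bot_le (a := Subgroup.center G))) (hpair ⟨1, P.one_mem⟩)
      · refine Finset.sum_congr rfl fun r hr => ?_
        rw [hFd]; beta_reduce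
        rw [Function.Embedding.coeFn_mk, dif_pos r.2]
        exact hrank r (hR₀ hr)
    · by_cases hy1 : y = 1
      · exact ⟨1, Finset.mem_insert_self _ _, 1, one_mem _, by simp [hy1]⟩
      obtain ⟨r, hr, a, hra⟩ := hR₀cov ⟨y, hy⟩ fun h => hy1 (congrArg Subtype.val h)
      obtain ⟨t, ht, hat⟩ := hAT a a.2
      refine ⟨r, Finset.mem_insert_of_mem (Finset.mem_map.mpr ⟨r, hr, rfl⟩), t⁻¹, inv_mem ht, ?_⟩
      have h1 : (t * (r : G) * t⁻¹) = y := by rw [← hat]; exact congrArg Subtype.val hra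
      rw [← h1]; group
    · rcases Finset.mem_insert.mp hr with rfl | hr1
      · rw [← h]; group
      rcases Finset.mem_insert.mp hr' with rfl | hr1'
      · exact absurd (conj_eq_one_iff.mp h) fun h1 => h1R (h1 ▸ hr1)
      obtain ⟨z, hz, rfl⟩ := Finset.mem_map.mp hr1
      obtain ⟨z', hz', rfl⟩ := Finset.mem_map.mp hr1'
      obtain ⟨a, ha, hat⟩ := hTA t ht
      exact congrArg Subtype.val (hR₀uniq z hz z' hz' ⟨a, ha⟩ (Subtype.ext ((hat z).trans h))).1
    · rw [hFd]; beta_reduce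
      rw [dif_pos (hRP r hr)]
      exact ⟨rfl, hβ ⟨r, hRP r hr⟩⟩
  -- the glued coefficients
  obtain ⟨u, hu, huinv, hum⟩ := D.exists_glued A hAT (by
    rw [Nat.card_eq_fintype_card, hFe]
    exact (hp.out.coprime_iff_not_dvd.mpr hep).symm)
  obtain ⟨f, hfd⟩ : ∃ f : B → P → ℂ, f = fun (χ : B) y => D.f₀ χ.1 y * u y := ⟨_, rfl⟩
  have hinv : ∀ χ : B, ∀ a ∈ A, ∀ y : P, y ≠ 1 → f χ (a y) = f χ y := fun χ a ha y hy => by
    rw [hfd]; exact huinv χ.1 a ha y hy
  have hetay : ∀ y : P, y ≠ 1 → ∀ (χ : IrrCharacter G) (s : Cen (Subgroup.zpowers (y : G))), ¬ p ∣ orderOf s →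
      secH (y : G) (Cen (Subgroup.zpowers (y : G))) (β y) χ s =
        D.f₀ χ y * (D.eta (Subgroup.zpowers (y : G)) : Cen (Subgroup.zpowers (y : G)) → ℂ) s := by
    intro y hy χ s hs
    subst hβd
    exact blockPart_coef (Subgroup.mem_zpowers _) (D.le_cen (hzle y) y.2)
      (isClassFunction_of_isCharacter (isCharacter_res _ (isCharacter_of_isIrr χ.2)))
      (D.eta_good (hzle y) (hzne y hy)).2.2.1 hs
  have hctr : ∀ y : P, y ≠ 1 → ∀ χ ψ : IrrCharacter G,
      ctr p (y : G) (Cen (Subgroup.zpowers (y : G))) (β y) χ ψ = D.f₀ χ y * conj (D.f₀ ψ y) := by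
    intro y hy χ ψ
    have h4 := (D.eta_good (hzle y) (hzne y hy)).2.2.2
    have h1 : regSum p (secH (y : G) _ (β y) χ) (secH (y : G) _ (β y) ψ) = D.f₀ χ y * conj (D.f₀ ψ y) *
        regSum p (D.eta (Subgroup.zpowers (y : G))).1 (D.eta (Subgroup.zpowers (y : G))).1 := by
      simp only [regSum_eq, Finset.mul_sum]
      refine Finset.sum_congr rfl fun s _ => ?_
      split_ifs with hs
      · rw [mul_zero]
      · rw [hetay y hy χ s hs, hetay y hy ψ s hs, map_mul]; ring
    rw [ctr, h1, hdef y, ← D.bR_defect (hzle y)]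
    linear_combination (D.f₀ χ y * conj (D.f₀ ψ y)) * h4
  obtain ⟨χ₀, hχ₀, hh₀⟩ := exists_height_zero hM hB
  have hmaj : ∀ y : P, y ≠ 1 → ∀ χ ∈ B, D.f₀ χ₀ y * conj (D.f₀ χ y) ≠ 0 := fun y hy χ hχ => by
    rw [← hctr y hy]
    exact ctr_ne_zero_major (cen_zpowers _) hM (hord y) (hind y) (hdef y) hχ₀ hh₀ hχ
  have hsubsum : ∀ h : IrrCharacter G → ℂ, ∑ χ : B, h χ = ∑ χ ∈ Finset.univ.filter (· ∈ B), h χ := fun h =>
    (Finset.sum_subtype (Finset.univ.filter (· ∈ B)) (fun χ => by simp) h).symm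
  have hsame : ∀ y : P, y ≠ 1 → ∑ χ : B, f χ y * conj (f χ y) = (Nat.card P : ℂ) := by
    intro y hy
    rw [hfd]; beta_reduce
    rw [hsubsum fun χ => D.f₀ χ y * u y * conj (D.f₀ χ y * u y)]
    have h1 := ctr_sum_mul (cen_zpowers _) hM (hord y) (hind y) χ₀ χ₀
    simp only [hctr y hy, hdef y, ← hcardP] at h1
    have h0 : D.f₀ χ₀ y ≠ 0 := left_ne_zero_of_mul (hmaj y hy χ₀ hχ₀)
    refine mul_left_cancel₀ (mul_ne_zero h0 ((map_ne_zero conj).mpr h0)) ?_
    rw [Finset.mul_sum, mul_comm _ (Nat.card P : ℂ), ← h1]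
    refine Finset.sum_congr rfl fun χ _ => ?_
    rw [map_mul]
    linear_combination (D.f₀ χ₀ y * conj (D.f₀ χ₀ y) * D.f₀ χ y * conj (D.f₀ χ y)) * hu y hy
  have hother : ∀ y y' : P, y ≠ 1 → y' ≠ 1 → (∀ a ∈ A, a y ≠ y') → ∑ χ : B, f χ y * conj (f χ y') = 0 := by
    intro y y' hy hy' hne'
    rw [hfd]; beta_reduce
    rw [hsubsum fun χ => D.f₀ χ y * u y * conj (D.f₀ χ y' * u y')]
    have hex : ∀ z : P, z ≠ 1 → ∃ s : Cen (Subgroup.zpowers (z : G)), ¬ p ∣ orderOf s ∧
        (D.eta (Subgroup.zpowers (z : G))).1 s ≠ 0 := fun z hz =>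
      ⟨1, by rw [orderOf_one]; exact hp.out.not_dvd_one, irr_one_ne_zero (D.eta _).2⟩
    obtain ⟨s, hs, hws⟩ := hex y hy
    obtain ⟨t, ht, hwt⟩ := hex y' hy'
    have h1 := sum_secH_orth hM (cen_zpowers (y : G)) (cen_zpowers (y' : G)) (hord y) (hord y') (hind y)
      (hblk y') (fun g hg hgid => ?_) hs ht
    · have h2 : ∑ χ ∈ Finset.univ.filter (· ∈ B), D.f₀ χ y * conj (D.f₀ χ y') = 0 := by
        refine (mul_eq_zero.mp (?_ : _ * ((D.eta (Subgroup.zpowers (y : G))).1 s * conj ((D.eta (Subgroup.zpowers (y' : G))).1 t)) = 0)).resolve_right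
          (mul_ne_zero hws ((map_ne_zero (starRingEnd ℂ)).mpr hwt))
        rw [← h1, Finset.sum_mul]
        exact Finset.sum_congr rfl fun χ _ => by rw [hetay y hy χ s hs, hetay y' hy' χ t ht, map_mul]; ring
      calc _ = (u y * conj (u y')) * ∑ χ ∈ Finset.univ.filter (· ∈ B), D.f₀ χ y * conj (D.f₀ χ y') := by
            rw [Finset.mul_sum]; exact Finset.sum_congr rfl fun χ _ => by rw [map_mul]; ring
        _ = 0 := by rw [h2, mul_zero]
    · have hpe : cjPair g (⟨_, β y⟩ : BrauerPairIdx G) = ⟨_, β y'⟩ :=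
        pair_ext (M := M) (isBrauerPair_cjPair g (hpair y).1).2 (hblk y')
          (by rw [cjPair_fst, map_conj_zpowers, hg]) (by rw [pid_cjPair]; exact hgid)
      obtain ⟨t', ht', htg⟩ := exists_cen_mul_map hM hmax hab (hβ y) (hβ y') hpe
      obtain ⟨a, ha, hat⟩ := hTA _ htg
      refine hne' a ha (Subtype.ext ?_)
      rw [hat, show t' * g * (y : G) * (t' * g)⁻¹ = t' * (g * (y : G) * g⁻¹) * t'⁻¹ by group, hg,
        ← Subgroup.mem_centralizer_iff.mp ht' (y' : G) (Subgroup.mem_zpowers _), mul_inv_cancel_right]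
  -- the integral rows
  obtain ⟨ω, hω⟩ : ∃ ω : IrrCharacter P, CyclicOrbits.triv ω := ⟨irrOne, fun y => rfl⟩
  have hum' : ∀ χ : B, ∃ m : IrrCharacter P → ℤ,
      (∀ μ : IrrCharacter P, (m μ : ℂ) = (Nat.card P : ℂ)⁻¹ * ∑ y, f χ y * (conj ((μ : P → ℂ) y) - 1)) ∧
      ∀ y : P, y ≠ 1 → f χ y = ∑ μ : IrrCharacter P, (m μ : ℂ) * (μ : P → ℂ) y := fun χ => by
    rw [hfd]; exact hum χ.1
  choose mm hmm hmmexp using hum'
  obtain ⟨r, hrd⟩ : ∃ r : B → Θ → ℤ, r = fun χ (θ : Θ) => mm χ θ.1 := ⟨_, rfl⟩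
  have hr : ∀ χ (θ : Θ), (r χ θ : ℂ) =
      (Nat.card P : ℂ)⁻¹ * ∑ y, f χ y * (conj (((θ : IrrCharacter P) : P → ℂ) y) - 1) := fun χ θ => by
    rw [hrd]; exact hmm χ θ
  have hmmω : ∀ χ, mm χ ω = 0 := fun χ => by
    apply Int.cast_injective (α := ℂ)
    rw [hmm]
    simp [show ∀ y, (ω : P → ℂ) y = 1 from hω]
  have hmminv : ∀ χ (θ : IrrCharacter P) (a : A), mm χ (tirr (a : MulAut P).symm θ) = mm χ θ := by
    intro χ θ a
    apply Int.cast_injective (α := ℂ)
    rw [hmm, hmm]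
    congr 1
    refine Fintype.sum_equiv (a : MulAut P).toEquiv _ _ fun y => ?_
    rw [MulEquiv.toEquiv_eq_coe, EquivLike.coe_coe]
    have h1 : ((tirr (a : MulAut P).symm θ : IrrCharacter P) : P → ℂ) y = (θ : P → ℂ) ((a : MulAut P) y) := rfl
    rw [h1]
    by_cases hy : y = 1
    · simp [hy, irr_one_eq_one_of_comm habP θ.2]
    · rw [hinv χ _ a.2 y hy]
  have hnz : ∀ χ : B, ∃ θ, r χ θ ≠ 0 := by
    intro χ
    obtain ⟨y, hy⟩ : ∃ y : P, y ≠ 1 := by
      by_contra! h
      exact hne (Subgroup.eq_bot_iff_forall _ |>.mpr fun z hz => congrArg Subtype.val (h ⟨z, hz⟩))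
    by_contra! h
    have h0 : f χ y = 0 := by
      rw [hmmexp χ y hy, CyclicOrbits.sum_irr_split habP hAfree hΘnt hΘcov hΘuniq _ hω, hmmω, Int.cast_zero,
        zero_mul, zero_add]
      refine Finset.sum_eq_zero fun θ hθ => Finset.sum_eq_zero fun a _ => ?_
      have h2 := h ⟨θ, hθ⟩
      rw [hrd] at h2
      beta_reduce at h2
      rw [hmminv, h2, Int.cast_zero, zero_mul]
    refine hmaj y hy χ χ.2 ?_
    rw [hfd] at h0
    rw [(mul_eq_zero.mp h0).resolve_right (left_ne_zero_of_mul_eq_one (hu y hy)), map_zero, mul_zero]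
  have hgram : ∀ θ θ' : Θ, ∑ χ, r χ θ * r χ θ' = (Fintype.card A : ℤ) + if θ = θ' then 1 else 0 := by
    intro θ θ'
    apply Int.cast_injective (α := ℂ)
    obtain ⟨u, hu⟩ : ∃ u : Θ → P → ℂ, u = fun (θ : Θ) y => conj ((θ.1 : P → ℂ) y) - 1 := ⟨_, rfl⟩
    have hu1 : ∀ θ, u θ 1 = 0 := fun θ => by
      rw [hu]; simp [irr_one_eq_one_of_comm habP (θ : IrrCharacter P).2]
    have hexp : ∀ χ, ((r χ θ : ℤ) : ℂ) * (r χ θ' : ℂ) = (Nat.card P : ℂ)⁻¹ * (Nat.card P : ℂ)⁻¹ *
        ∑ y, ∑ y', (f χ y * conj (f χ y')) * (u θ y * conj (u θ' y')) := by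
      intro χ
      have hc : (r χ θ' : ℂ) = conj (r χ θ' : ℂ) := (map_intCast _ _).symm
      rw [hc, hr, hr, map_mul, map_inv₀, map_natCast, map_sum, mul_mul_mul_comm, Finset.sum_mul_sum]
      simp only [hu, map_mul]
      exact congrArg _ (Finset.sum_congr rfl fun y _ => Finset.sum_congr rfl fun y' _ => by ring)
    push_cast
    rw [Finset.sum_congr rfl fun χ _ => hexp χ, ← Finset.mul_sum, Finset.sum_comm,
      Finset.sum_congr rfl fun y _ => Finset.sum_comm]
    simp only [← Finset.sum_mul]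
    have hG : ∀ y : P, ∑ y', (∑ χ, f χ y * conj (f χ y')) * (u θ y * conj (u θ' y')) =
        (Nat.card P : ℂ) * ∑ a : A, u θ y * conj (u θ' ((a : MulAut P) y)) := by
      intro y
      by_cases hy : y = 1
      · simp [hy, hu1]
      rw [Finset.mul_sum, ← Finset.sum_subset (Finset.subset_univ (Finset.univ.image fun a : A => (a : MulAut P) y))
        fun y' _ hy' => ?_, Finset.sum_image fun a _ b _ h => ?_]
      · refine Finset.sum_congr rfl fun a _ => ?_
        congr 1
        rw [← hsame y hy]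
        exact Finset.sum_congr rfl fun χ _ => by rw [hinv χ _ a.2 y hy]
      · have h2 : ((b⁻¹ * a : A) : MulAut P) y = y := by
          rw [Subgroup.coe_mul, MulAut.mul_apply]
          exact (congrArg _ h).trans ((b : MulAut P).symm_apply_apply y)
        exact (inv_mul_eq_one.mp (Subtype.ext (hAfree _ (b⁻¹ * a).2 y hy h2))).symm
      · by_cases hy1 : y' = 1
        · rw [hy1, hu1, map_zero, mul_zero, mul_zero]
        rw [hother y y' hy hy1 fun a ha h => hy' (Finset.mem_image.mpr ⟨⟨a, ha⟩, Finset.mem_univ _, h⟩), zero_mul]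
    rw [Finset.sum_congr rfl fun y _ => hG y, ← Finset.mul_sum, Finset.sum_comm, ← mul_assoc,
      inv_mul_cancel_right₀ (Nat.cast_ne_zero.mpr Nat.card_pos.ne'), Finset.mul_sum]
    have hone' : ∀ a : A, (Nat.card P : ℂ)⁻¹ * ∑ y, u θ y * conj (u θ' ((a : MulAut P) y)) =
        1 + if θ = θ' ∧ a = 1 then 1 else 0 := by
      intro a
      have hsumθ : ∀ μ : IrrCharacter P, ¬ CyclicOrbits.triv μ → ∑ y, (μ : P → ℂ) y = 0 := by
        intro μ hμ
        have h := classInner_irr_ne μ.2 ω.2 fun he => hμ fun y => (congrFun he y).trans (hω y)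
        rw [classInner_def, mul_eq_zero] at h
        rw [← h.resolve_left (inv_ne_zero (Nat.cast_ne_zero.mpr Nat.card_pos.ne'))]
        exact Finset.sum_congr rfl fun y _ => by rw [hω, map_one, mul_one]
      have h1 : ∀ y, u θ y * conj (u θ' ((a : MulAut P) y)) =
          ((θ' : IrrCharacter P) : P → ℂ) ((a : MulAut P) y) * conj (((θ : IrrCharacter P) : P → ℂ) y) -
            ((θ' : IrrCharacter P) : P → ℂ) ((a : MulAut P) y) - conj (((θ : IrrCharacter P) : P → ℂ) y) + 1 := by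
        intro y
        rw [hu]; simp only [map_sub, Complex.conj_conj, map_one]; ring
      have h2 : ∑ y, ((θ' : IrrCharacter P) : P → ℂ) ((a : MulAut P) y) = 0 :=
        (Fintype.sum_equiv (a : MulAut P).toEquiv _ _ fun y => rfl).trans (hsumθ _ (hΘnt _ θ'.2))
      have h3 : ∑ y, conj (((θ : IrrCharacter P) : P → ℂ) y) = 0 := by
        rw [← map_sum, hsumθ _ (hΘnt _ θ.2), map_zero]
      have h4 : (Nat.card P : ℂ)⁻¹ * ∑ y, ((θ' : IrrCharacter P) : P → ℂ) ((a : MulAut P) y) *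
          conj (((θ : IrrCharacter P) : P → ℂ) y) = if θ = θ' ∧ a = 1 then 1 else 0 := by
        split_ifs with h
        · obtain ⟨rfl, rfl⟩ := h
          rw [← classInner_irr_self (θ : IrrCharacter P).2, classInner_def]
          rfl
        · exact classInner_irr_ne (tirr (a : MulAut P).symm (θ' : IrrCharacter P)).2 (θ : IrrCharacter P).2
            fun he => h (by
              obtain ⟨e1, e2⟩ := hΘuniq _ θ'.2 _ θ.2 a fun y => (congrFun he y).symm
              exact ⟨Subtype.ext e1.symm, e2⟩)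
      simp only [h1, Finset.sum_add_distrib, Finset.sum_sub_distrib, h2, h3, sub_zero, mul_add, h4,
        Finset.sum_const, Finset.card_univ, nsmul_one, ← Nat.card_eq_fintype_card,
        inv_mul_cancel₀ (show (Nat.card P : ℂ) ≠ 0 from Nat.cast_ne_zero.mpr Nat.card_pos.ne')]
      ring
    rw [Finset.sum_congr rfl fun a _ => hone' a, Finset.sum_add_distrib, Finset.sum_const, Finset.card_univ,
      nsmul_one]
    congr 1
    split_ifs with h <;> simp [h]
  have : Nonempty Θ := hΘne.to_subtype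
  have hgram' : ∀ i j : Θ, ∑ a, r a i * r a j = (e : ℤ) + if i = j then 1 else 0 := hFe ▸ hgram
  have hle := RowBound.card_le hgram' hnz
  rw [Fintype.card_coe, ← Nat.card_eq_fintype_card, hkl] at hle
  refine ⟨Θ.card, hΘcard, hepos, hkl, by omega, fun he3 => ?_⟩
  have hl0 := BlockArith.blockRank_pos (p := p) hB
  have hsmall := RowBound.small_cases hgram' hnz he3
  rw [Fintype.card_coe, ← Nat.card_eq_fintype_card, hkl] at hsmall
  rcases hsmall with h | ⟨h1, h2, h3⟩ | ⟨h1, h2⟩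
  · omega
  · exfalso
    have hq : p ^ blockDefect p B = e * Θ.card + 1 := by
      rw [← hcardP, mul_comm, hΘcard]; omega
    have hd1 := prime_of_config hp.out hq he3 h2 (by omega)
    have hcyc : IsCyclic P := isCyclic_of_prime_card (p := p) (by rw [hcardP, hd1, pow_one])
    obtain ⟨S⟩ := Cyclic.exists_cycData hM hmax hcyc hne hβ
    have hl := S.hl
    rw [← hed] at hl
    omega
  · omega

end CfsgLib.Blocks.FreeInertia
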