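import Cfsg.Agent.Lib.Blocks.CyclicLocal
import Cfsg.Agent.Lib.Blocks.SectionOrth

/-!
# Section coefficients against a nilpotent block of a centraliser

* `exists_reg_base`: in a block with abelian defect group and inertial index one all members agree on
  regular elements with one of regular norm one;
* `coef`: the coefficient of the part of a function on the section of a central element;
* `eval_idem`: the value of a character at `u i` through the Brauer image of the idempotent `i`.
-/

set_option autoImplicit false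

noncomputable section

namespace CfsgLib.Blocks.FreeInertia

open Cfsg CfsgLib.Blocks CfsgLib.BlockArith CfsgLib.Char CfsgLib.BrauerPairs CfsgLib.NilBlock
open scoped ComplexConjugate Classical

universe u

variable {M : Ideal AlgInt} [M.IsMaximal] {p : ℕ} [hp : Fact p.Prime]

/-- **The regular values of a block of inertial index one.** -/
theorem exists_reg_base (hM : IsPModular p M) {H : Type u} [Group H] [Fintype H] {b : Set (IrrCharacter H)}
    (hb : IsPBlock M b) (hI : InertOne p M b) :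
    ∃ η ∈ b, blockHeight p b (η : H → ℂ) = 0 ∧
      (∀ ψ ∈ b, ∀ s : H, ¬ p ∣ orderOf s → (ψ : H → ℂ) s = (η : H → ℂ) s) ∧
      ((p ^ blockDefect p b : ℕ) : ℂ) / (Nat.card H : ℂ) * regSum p (η : H → ℂ) (η : H → ℂ) = 1 := by
  obtain ⟨hl, hk, -⟩ := inertOne_counts hM _ H b rfl hb hI
  obtain ⟨P, hPD⟩ := exists_isDefectGroup (p := p) hb
  obtain ⟨c, hmax⟩ := exists_maximal_at hM hb hPD
  obtain ⟨hab, -⟩ := hI P c hmax
  obtain ⟨β, S⟩ := NilBlock.exists_setup hM hmax (Cyclic.isNilpotentBlock_of_inertOne hM hb hI)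
    fun K _ _ _ => blockRank_eq_one_of_nilpotent hM K
  obtain ⟨η, hη, hh⟩ := exists_height_zero hM hb
  obtain ⟨F, hF⟩ := S.exists_equiv hη hh
  have habP : ∀ x y : P, x * y = y * x := fun x y => Subtype.ext (hab _ x.2 _ y.2)
  have hreg : ∀ ψ ∈ b, ∀ s : H, ¬ p ∣ orderOf s → (ψ : H → ℂ) s = (η : H → ℂ) s := fun ψ hψ s hs => by
    have h := hF (F.symm ⟨ψ, hψ⟩) s hs
    rw [Equiv.apply_symm_apply, ← CfsgLib.Blocks.charDegree_eq (isCharacter_of_isIrr (F.symm ⟨ψ, hψ⟩).2),
      irr_one_eq_one_of_comm habP (F.symm ⟨ψ, hψ⟩).2, one_mul] at h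
    exact h
  refine ⟨η, hη, hh, hreg, ?_⟩
  have h := card_mul_blockRank hM hb
  rw [hl, Nat.cast_one, mul_one, Finset.sum_congr rfl fun χ _ => show (if χ ∈ b then
      ∑ s : H, (if p ∣ orderOf s then 0 else (χ : H → ℂ) s * conj ((χ : H → ℂ) s)) else 0) =
      if χ ∈ b then regSum p (η : H → ℂ) (η : H → ℂ) else 0 by
    split_ifs with hχ
    · rw [regSum_eq]
      exact Finset.sum_congr rfl fun s _ => by split_ifs with hs <;> [rfl; rw [hreg χ hχ s hs]]
    · rfl, ← Finset.sum_filter, Finset.sum_const, nsmul_eq_mul] at h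
  rw [show (Finset.univ.filter fun χ : IrrCharacter H => χ ∈ b).card = p ^ blockDefect p b by
    rw [← hk, ← Fintype.card_subtype, ← Nat.card_eq_fintype_card]] at h
  rw [div_mul_eq_mul_div, ← h, div_self card_ne_zero']

variable {G : Type u} [Group G] [Fintype G]

/-- The coefficient of `θ (y ·)` in the block `b` of `C(R)`. -/
def coef {R : Subgroup G} (b : Set (IrrCharacter (Cen R))) (θ : G → ℂ) (y : G) : ℂ :=
  ∑ ψ : IrrCharacter (Cen R), if ψ ∈ b then
    classInner (fun k : Cen R => θ (k : G)) (ψ : Cen R → ℂ) *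
      (if h : y ∈ Cen R then centScal ψ ⟨y, h⟩ else 0) else 0

section coef

variable {R : Subgroup G} {b : Set (IrrCharacter (Cen R))} {θ : G → ℂ}
  (hθ : IsCharacter (Cen R) fun k : Cen R => θ (k : G)) {y : G} (hy : y ∈ R) (hyC : y ∈ Cen R)

omit hp [M.IsMaximal] [Fintype G] in
theorem mem_center_cen (hy : y ∈ R) (hyC : y ∈ Cen R) : (⟨y, hyC⟩ : Cen R) ∈ Subgroup.center (Cen R) :=
  Subgroup.mem_center_iff.mpr fun g => Subtype.ext (Subgroup.mem_centralizer_iff.mp g.2 y hy).symm

omit hp [M.IsMaximal] in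
theorem centScal_pow {C : Type*} [Group C] [Fintype C] (ψ : IrrCharacter C) {z : C}
    (hz : z ∈ Subgroup.center C) (n : ℕ) : centScal ψ (z ^ n) = centScal ψ z ^ n := by
  induction n with
  | zero => rw [pow_zero, pow_zero, centScal_one]
  | succ n ih => rw [pow_succ', centScal_mul ψ hz, ih, pow_succ']

omit hp [M.IsMaximal] in
theorem centScal_root {C : Type*} [Group C] [Fintype C] (ψ : IrrCharacter C) {z : C}
    (hz : z ∈ Subgroup.center C) {n : ℕ} (hzn : z ^ n = 1) : centScal ψ z ^ n = 1 := by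
  rw [← centScal_pow ψ hz, hzn, centScal_one]

include hy hyC

include hθ in
omit hp [M.IsMaximal] in
theorem isIntegral_coef {n : ℕ} (hn : n ≠ 0) (hyn : y ^ n = 1) : IsIntegral ℤ (coef b θ y) := by
  refine IsIntegral.sum _ fun ψ _ => ?_
  split_ifs with hψ
  · obtain ⟨m, hm⟩ := classInner_char_nat hθ (isCharacter_of_isIrr ψ.2)
    rw [hm]
    refine IsIntegral.mul ((isIntegral_algebraMap (R := ℤ) (A := ℂ) (x := (m : ℤ)))) ?_
    exact IsIntegral.of_pow (Nat.pos_of_ne_zero hn) (by
      rw [centScal_root ψ (mem_center_cen hy hyC) (Subtype.ext (by simpa using hyn))]; exact isIntegral_one)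
  · exact isIntegral_zero

include hθ in
omit hp [M.IsMaximal] in
theorem coef_galois {σ : ℂ ≃+* ℂ} {n k : ℕ} (hσ : ∀ z : ℂ, z ^ n = 1 → σ z = z ^ k) (hyn : y ^ n = 1) :
    σ (coef b θ y) = coef b θ (y ^ k) := by
  simp only [coef, map_sum]
  refine Finset.sum_congr rfl fun ψ _ => ?_
  split_ifs with hψ h2
  · obtain ⟨m, hm⟩ := classInner_char_nat hθ (isCharacter_of_isIrr ψ.2)
    rw [map_mul, hm, map_natCast, hσ _ (centScal_root ψ (mem_center_cen hy hyC) (Subtype.ext (by simpa using hyn))),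
      ← centScal_pow ψ (mem_center_cen hy hyC)]
    rfl
  · exact absurd (pow_mem hyC k) h2
  · exact map_zero σ

include hθ in
omit hp [M.IsMaximal] in
theorem coef_conj : conj (coef b θ y) = coef b θ y⁻¹ := by
  simp only [coef, map_sum]
  refine Finset.sum_congr rfl fun ψ _ => ?_
  split_ifs with hψ h2
  · obtain ⟨m, hm⟩ := classInner_char_nat hθ (isCharacter_of_isIrr ψ.2)
    rw [map_mul, hm, map_natCast]
    congr 1
    have hc := mem_center_cen hy hyC
    have h1 := conj_centScal_mul_self ψ hc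
    have h3 := centScal_mul ψ hc (⟨y, hyC⟩ : Cen R)⁻¹
    rw [mul_inv_cancel, centScal_one] at h3
    refine mul_right_cancel₀ (left_ne_zero_of_mul_eq_one h3.symm) (h1.trans ?_)
    rw [h3, mul_comm]
    rfl
  · exact absurd (inv_mem hyC) h2
  · exact map_zero _

omit hp [M.IsMaximal] in
theorem classInner_shift (hθc : IsClassFunction (Cen R) fun k : Cen R => θ (k : G)) (ψ : IrrCharacter (Cen R)) :
    classInner (fun k : Cen R => θ (y * (k : G))) (ψ : Cen R → ℂ) =
      classInner (fun k : Cen R => θ (k : G)) (ψ : Cen R → ℂ) * centScal ψ ⟨y, hyC⟩ := by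
  have hexp : (fun k : Cen R => θ (y * (k : G))) = ∑ φ : IrrCharacter (Cen R),
      (classInner (fun k : Cen R => θ (k : G)) (φ : Cen R → ℂ) * centScal φ ⟨y, hyC⟩) • (φ : Cen R → ℂ) := by
    funext k
    have h := congrFun (classFun_eq_sum hθc) (⟨y, hyC⟩ * k)
    simp only [Finset.sum_apply, Pi.smul_apply, smul_eq_mul] at h ⊢
    refine h.trans (Finset.sum_congr rfl fun φ _ => ?_)
    rw [char_central_mul φ (mem_center_cen hy hyC), centScal, mul_assoc]
  rw [hexp, classInner_sum_left, Finset.sum_eq_single ψ]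
  · rw [classInner_smul_left, classInner_irr_self ψ.2, mul_one]
  · intro φ _ hφ
    rw [classInner_smul_left, classInner_irr_ne φ.2 ψ.2 fun h => hφ (Subtype.ext h), mul_zero]
  · simp

omit [M.IsMaximal] hp in
/-- The part on the section of `y`. -/
theorem blockPart_coef (hθc : IsClassFunction (Cen R) fun k : Cen R => θ (k : G))
    {η : IrrCharacter (Cen R)}
    (hreg : ∀ ψ ∈ b, ∀ s : Cen R, ¬ p ∣ orderOf s → (ψ : Cen R → ℂ) s = (η : Cen R → ℂ) s)
    {s : Cen R} (hs : ¬ p ∣ orderOf s) :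
    blockPart b (fun k : Cen R => θ (y * (k : G))) s = coef b θ y * (η : Cen R → ℂ) s := by
  rw [blockPart_apply, coef, Finset.sum_mul]
  refine Finset.sum_congr rfl fun ψ _ => ?_
  split_ifs with hψ
  · rw [hreg ψ hψ s hs, classInner_shift hy hyC hθc ψ]
  · rw [zero_mul]

end coef

omit hp in
/-- **The value at `u i`.** -/
theorem eval_idem (hM : IsPModular p M) {H : Type u} [Group H] [Fintype H] {u : H}
    (hu : ∃ k : ℕ, orderOf u = p ^ k) {χ : H → ℂ} (hχ : IsClassFunction H χ) {i : LA M H} (hi : i * i = i)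
    (hiu : Commute i (MonoidAlgebra.single u 1)) {j : LA M (Cen (Subgroup.zpowers u))} (hj : j * j = j)
    (hij : br (Subgroup.zpowers u) (redLA M H i) = emb (Cen (Subgroup.zpowers u)) (redLA M _ j))
    {b : Set (IrrCharacter (Cen (Subgroup.zpowers u)))} (hb : IsPBlock M b)
    (hjb : redLA M _ j * ridem hb = redLA M _ j) {c : ℂ} {η : Cen (Subgroup.zpowers u) → ℂ}
    (hη : IsClassFunction (Cen (Subgroup.zpowers u)) η)
    (hsec : ∀ k, ¬ p ∣ orderOf k →
      blockPart b (fun k : Cen (Subgroup.zpowers u) => χ (u * k)) k = c * η k) :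
    charLin χ (toCA M H (MonoidAlgebra.single u 1 * i)) =
      c * ∑ k : Cen (Subgroup.zpowers u), (j.coeff k : ℂ) * η k := by
  rw [charLin_single_mul_transfer hM hu hχ hi hiu hj hij, sum_single_section hM hχ hj hb fun b' hb' hne => by
      rw [← hjb, mul_assoc, ridem_mul_of_ne hb hb' (Ne.symm hne), mul_zero],
    sum_regular hM hj hη, Finset.mul_sum]
  refine Finset.sum_congr rfl fun k _ => ?_
  split_ifs with hk
  · rw [mul_zero]
  · rw [hsec k hk]; ring

omit hp in
/-- An idempotent lift keeping the symmetry. -/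
theorem exists_lift_idem (hM : IsPModular p M) {C : Subgroup G} {x : KG M G} (hxs : ∀ g, g ∉ C → x.coeff g = 0)
    (hxx : x * x = x) :
    ∃ j : LA M C, j * j = j ∧ emb C (redLA M C j) = x ∧
      ∀ v : C, (∀ g, x.coeff ((v : G) * g * (v : G)⁻¹) = x.coeff g) → Commute j (MonoidAlgebra.single v 1) := by
  obtain ⟨x', hx'⟩ : ∃ x' : KG M C, x' = ofFun fun k : C => x.coeff (k : G) := ⟨_, rfl⟩
  have hemb : emb C x' = x := ext_coeff fun g => by
    by_cases hg : g ∈ C
    · rw [show g = ((⟨g, hg⟩ : C) : G) from rfl, coeff_emb, hx', coeff_ofFun]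
    · rw [coeff_emb_of_notMem _ _ hg, hxs g hg]
  have hxx' : x' * x' = x' := emb_injective _ (by rw [map_mul, hemb, hxx])
  obtain ⟨j, bb, hab, -, hjj, -, -, hcom, m, hm⟩ := exists_spectral hM (liftLA M x')
  refine ⟨j, hjj, ?_, fun v hv => (hcom _ (commute_liftLA fun k => ?_)).1⟩
  · rw [← hemb]
    congr 1
    symm
    refine eq_of_spectral (y := redLA M _ bb) ?_ (m := m) ?_ hxx'
    · have h := congrArg (redLA M _) hab
      rwa [map_mul, redLA_liftLA] at h
    · rw [map_mul, map_pow, map_sub, map_one, redLA_liftLA] at hm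
      exact hm
  · rw [hx', coeff_ofFun, coeff_ofFun]
    exact hv k

end CfsgLib.Blocks.FreeInertia
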