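import Mathlib.Algebra.Order.BigOperators.Ring.Finset
import Mathlib.Algebra.BigOperators.Ring.Finset
import Mathlib.Algebra.BigOperators.Option
import Mathlib.Data.Fintype.BigOperators
import Mathlib.Data.Fintype.Card
import Mathlib.Data.Fintype.Option
import Mathlib.Tactic.Linarith
import Mathlib.Tactic.LinearCombination
import Mathlib.Tactic.Ring
import Mathlib.Tactic.Push
import Mathlib.Tactic.IntervalCases
import Mathlib.Tactic.NormNum

/-!
# Integer rows with Gram matrix `I + e J`

* `dev`: `q Σ a² - (Σ a)²` of an integer vector; `card_sub_one_le_dev`, `shape_of_dev_eq`;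
* `card_le`: at most `e + |ι|` nonzero rows;
* `small_cases`: for `e ≤ 3` there are `e + |ι|` of them, or `e + 2` with `3 ≤ |ι| ≤ e + 2`, or one.
-/

set_option autoImplicit false

namespace CfsgLib.Blocks.RowBound

open Finset

section dev

variable {κ : Type*} [Fintype κ]

/-- The scaled variance. -/
def dev (a : κ → ℤ) : ℤ := Fintype.card κ * ∑ i, a i ^ 2 - (∑ i, a i) ^ 2

theorem two_dev (a : κ → ℤ) : 2 * dev a = ∑ i, ∑ j, (a i - a j) ^ 2 := by
  have h : ∀ i j, (a i - a j) ^ 2 = a i ^ 2 + a j ^ 2 - 2 * (a i * a j) := fun i j => by ring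
  simp only [h, sum_sub_distrib, sum_add_distrib, sum_const, card_univ, nsmul_eq_mul, ← mul_sum,
    ← sum_mul, dev]
  ring

variable [DecidableEq κ]

theorem mult_bound (a : κ → ℤ) (c : ℤ) :
    ((univ.filter fun i => a i = c).card : ℤ) * ∑ j, (a j - c) ^ 2 ≤ dev a ∧
      ((univ.filter fun i => a i = c).card : ℤ) *
        ((Fintype.card κ : ℤ) - (univ.filter fun i => a i = c).card) ≤
      ((univ.filter fun i => a i = c).card : ℤ) * ∑ j, (a j - c) ^ 2 := by
  set S := univ.filter fun i => a i = c with hS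
  have hsplit : ∀ f : κ → ℤ, ∑ i, f i = ∑ i ∈ S, f i + ∑ i ∈ univ.filter (fun i => ¬ a i = c), f i :=
    fun f => (sum_filter_add_sum_filter_not univ _ f).symm
  constructor
  · have h1 : ∀ i ∈ S, ∑ j, (a i - a j) ^ 2 = ∑ j, (a j - c) ^ 2 := fun i hi => by
      rw [(mem_filter.mp hi).2]
      exact sum_congr rfl fun j _ => by ring
    have hrest : ∀ i ∈ univ.filter (fun i => ¬ a i = c),
        ((S.card : ℕ) : ℤ) * (a i - c) ^ 2 ≤ ∑ j, (a i - a j) ^ 2 := fun i _ => by
      rw [hsplit, sum_congr rfl fun j hj => by rw [(mem_filter.mp hj).2], sum_const, nsmul_eq_mul]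
      exact le_add_of_nonneg_right (sum_nonneg fun j _ => sq_nonneg _)
    have h2 := two_dev a
    rw [hsplit, sum_congr rfl h1, sum_const, nsmul_eq_mul] at h2
    have h3 := sum_le_sum hrest
    rw [← mul_sum] at h3
    have h4 : ∑ j, (a j - c) ^ 2 = ∑ i ∈ univ.filter (fun i => ¬ a i = c), (a i - c) ^ 2 := by
      rw [hsplit, sum_eq_zero fun j hj => by rw [(mem_filter.mp hj).2, sub_self]; ring, zero_add]
    rw [← h4] at h3
    linarith
  · refine mul_le_mul_of_nonneg_left ?_ (Int.natCast_nonneg _)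
    have hc := card_filter_add_card_filter_not (s := (univ : Finset κ)) (fun i => a i = c)
    rw [card_univ] at hc
    rw [hsplit, sum_eq_zero fun j hj => by rw [(mem_filter.mp hj).2, sub_self]; ring, zero_add, ← hS] at *
    rw [show (Fintype.card κ : ℤ) - S.card = ((univ.filter fun i => ¬ a i = c).card : ℤ) by omega,
      card_eq_sum_ones, Nat.cast_sum, Nat.cast_one]
    refine sum_le_sum fun j hj => ?_
    have hne : a j - c ≠ 0 := sub_ne_zero.mpr (mem_filter.mp hj).2
    have := mul_self_pos.mpr hne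
    rw [sq]
    omega

theorem card_sub_one_le_dev (a : κ → ℤ) (h : ∃ i j, a i ≠ a j) : (Fintype.card κ : ℤ) - 1 ≤ dev a := by
  obtain ⟨i, j, hij⟩ := h
  obtain ⟨h1, h2⟩ := mult_bound a (a i)
  set s := (univ.filter fun k => a k = a i).card
  have hs1 : 1 ≤ s := card_pos.mpr ⟨i, mem_filter.mpr ⟨mem_univ _, rfl⟩⟩
  have hs2 : s + 1 ≤ Fintype.card κ := by
    rw [← card_univ]
    refine card_lt_card (filter_ssubset.mpr ⟨j, mem_univ _, Ne.symm hij⟩)
  have h3 : (0 : ℤ) ≤ ((s : ℤ) - 1) * ((Fintype.card κ : ℤ) - s - 1) :=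
    mul_nonneg (by omega) (by omega)
  linarith

theorem shape_of_dev_eq [Nonempty κ] (a : κ → ℤ) (h : dev a = (Fintype.card κ : ℤ) - 1) :
    ∃ (j : κ) (c ε : ℤ), (ε = 1 ∨ ε = -1) ∧ ∀ i, a i = c + if i = j then ε else 0 := by
  by_cases hne : ∃ i j, a i ≠ a j
  swap
  · push Not at hne
    obtain ⟨j⟩ := ‹Nonempty κ›
    have h1 : Fintype.card κ = 1 := by
      have h0 : 2 * dev a = 0 := by
        rw [two_dev]
        exact sum_eq_zero fun i _ => sum_eq_zero fun k _ => by rw [hne i k]; ring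
      omega
    have := Fintype.card_le_one_iff_subsingleton.mp h1.le
    exact ⟨j, a j - 1, 1, Or.inl rfl, fun i => by rw [Subsingleton.elim i j, if_pos rfl]; ring⟩
  obtain ⟨i₁, i₂, h12⟩ := hne
  have key : ∀ i, (univ.filter fun k => a k = a i).card = 1 ∨
      ((univ.filter fun k => a k = a i).card + 1 = Fintype.card κ ∧
        ∀ k, a k ≠ a i → (a k - a i) ^ 2 = 1) := by
    intro i
    obtain ⟨hb1, hb2⟩ := mult_bound a (a i)
    set s := (univ.filter fun k => a k = a i).card with hs
    have hs1 : 1 ≤ s := card_pos.mpr ⟨i, mem_filter.mpr ⟨mem_univ _, rfl⟩⟩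
    have hs2 : s + 1 ≤ Fintype.card κ := by
      rw [← card_univ]
      refine card_lt_card (filter_ssubset.mpr ?_)
      by_cases h1 : a i₁ = a i
      · exact ⟨i₂, mem_univ _, fun h2 => h12 (h1.trans h2.symm)⟩
      · exact ⟨i₁, mem_univ _, h1⟩
    by_cases hs' : s = 1
    · exact Or.inl hs'
    have h3 : ((s : ℤ) - 1) * ((Fintype.card κ : ℤ) - s - 1) ≤ 0 := by linarith
    have h4 : (Fintype.card κ : ℤ) - s - 1 ≤ 0 := by
      by_contra hc
      exact absurd (mul_pos (show (0 : ℤ) < (s : ℤ) - 1 by omega) (not_le.mp hc)) (not_lt.mpr h3)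
    refine Or.inr ⟨by omega, fun k hk => ?_⟩
    have h5 : (a k - a i) ^ 2 ≤ ∑ j, (a j - a i) ^ 2 :=
      single_le_sum (f := fun j => (a j - a i) ^ 2) (fun j _ => sq_nonneg _) (mem_univ k)
    have h6 : (s : ℤ) * ∑ j, (a j - a i) ^ 2 ≤ s := by linarith
    have h7 : ∑ j, (a j - a i) ^ 2 ≤ 1 := by
      by_contra hc
      have h8 := mul_le_mul_of_nonneg_left (show (2 : ℤ) ≤ ∑ j, (a j - a i) ^ 2 by omega) (Int.natCast_nonneg s)
      omega
    have := mul_self_pos.mpr (sub_ne_zero.mpr hk)
    rw [sq] at h5 ⊢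
    omega
  by_cases hbig : ∃ i, (univ.filter fun k => a k = a i).card + 1 = Fintype.card κ ∧
      ∀ k, a k ≠ a i → (a k - a i) ^ 2 = 1
  · obtain ⟨i, hi, hd⟩ := hbig
    have hc := card_filter_add_card_filter_not (s := (univ : Finset κ)) (fun k => a k = a i)
    rw [card_univ] at hc
    obtain ⟨j, hj⟩ := card_eq_one.mp (show (univ.filter fun k => ¬ a k = a i).card = 1 by omega)
    have hjm : a j ≠ a i := (mem_filter.mp (hj ▸ mem_singleton_self j : j ∈ univ.filter fun k => ¬ a k = a i)).2
    refine ⟨j, a i, a j - a i, sq_eq_one_iff.mp (hd j hjm), fun k => ?_⟩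
    split_ifs with hk
    · rw [hk]; ring
    · rw [add_zero]
      by_contra hne
      exact hk (mem_singleton.mp (hj ▸ mem_filter.mpr ⟨mem_univ k, hne⟩))
  · -- all values are distinct
    have hinj : ∀ i k, a k = a i → k = i := fun i k hk => by
      have h1 := (key i).resolve_right fun h => hbig ⟨i, h⟩
      exact card_le_one.mp h1.le k (mem_filter.mpr ⟨mem_univ _, hk⟩) i (mem_filter.mpr ⟨mem_univ _, rfl⟩)
    have hlow : ∀ i, (Fintype.card κ : ℤ) - 1 ≤ ∑ j, (a i - a j) ^ 2 := fun i => by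
      have h1 := (mult_bound a (a i)).2
      rw [(key i).resolve_right fun h => hbig ⟨i, h⟩, Nat.cast_one, one_mul, one_mul] at h1
      exact h1.trans (le_of_eq (sum_congr rfl fun j _ => by ring))
    have h2 := sum_le_sum fun i (_ : i ∈ (univ : Finset κ)) => hlow i
    rw [sum_const, card_univ, nsmul_eq_mul, ← two_dev, h] at h2
    have hq : 2 ≤ Fintype.card κ := Fintype.one_lt_card_iff.mpr ⟨i₁, i₂, fun e => h12 (congrArg a e)⟩
    have hq2 : Fintype.card κ ≤ 2 := by
      by_contra hc
      have := mul_lt_mul_of_pos_right (show (2 : ℤ) < Fintype.card κ by omega)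
        (show (0 : ℤ) < (Fintype.card κ : ℤ) - 1 by omega)
      linarith
    exfalso
    refine hbig ⟨i₁, ?_, fun k hk => ?_⟩
    · rw [(key i₁).resolve_right fun h => hbig ⟨i₁, h⟩]; omega
    · have h3 := (mult_bound a (a i₁)).1
      rw [(key i₁).resolve_right fun h => hbig ⟨i₁, h⟩, Nat.cast_one, one_mul, h] at h3
      have h5 : (a k - a i₁) ^ 2 ≤ ∑ j, (a j - a i₁) ^ 2 :=
        single_le_sum (f := fun j => (a j - a i₁) ^ 2) (fun j _ => sq_nonneg _) (mem_univ k)
      have := mul_self_pos.mpr (sub_ne_zero.mpr hk)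
      rw [sq] at h5 ⊢
      omega

end dev

variable {α ι : Type*} [Fintype α] [Fintype ι] [DecidableEq ι] {r : α → ι → ℤ} {e : ℕ}
  (hgram : ∀ i j, ∑ a, r a i * r a j = (e : ℤ) + if i = j then 1 else 0)
  (hnz : ∀ a, ∃ i, r a i ≠ 0)

include hgram hnz

/-- At most `e + |ι|` rows. -/
theorem card_le [Nonempty ι] : Fintype.card α ≤ e + Fintype.card ι := by
  have hrow : ∀ a, (Fintype.card ι : ℤ) ≤
      ((Fintype.card ι : ℤ) + 1) * ∑ i, r a i ^ 2 - (∑ i, r a i) ^ 2 := by
    intro a
    obtain ⟨i, hi⟩ := hnz a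
    have h := card_sub_one_le_dev (fun o : Option ι => o.elim 0 (r a)) ⟨some i, none, hi⟩
    simpa [dev, Fintype.sum_option] using h
  have h := sum_le_sum fun a (_ : a ∈ (univ : Finset α)) => hrow a
  rw [sum_const, card_univ, nsmul_eq_mul, sum_sub_distrib, ← mul_sum] at h
  have h1 : ∑ a, ∑ i, r a i ^ 2 = (Fintype.card ι : ℤ) * (e + 1) := by
    rw [sum_comm, sum_congr rfl fun i _ => show ∑ a, r a i ^ 2 = (e : ℤ) + 1 by
      simp only [sq]; rw [hgram, if_pos rfl], sum_const, card_univ, nsmul_eq_mul]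
  have h2 : ∑ a, (∑ i, r a i) ^ 2 = (Fintype.card ι : ℤ) + e * (Fintype.card ι : ℤ) * Fintype.card ι := by
    simp only [sq, sum_mul_sum]
    rw [sum_comm, sum_congr rfl fun i _ => sum_comm]
    simp only [hgram, sum_add_distrib, sum_const, card_univ, nsmul_eq_mul, sum_ite_eq, mem_univ, if_true]
    ring
  rw [h1, h2] at h
  have hm : (0 : ℤ) < Fintype.card ι := by exact_mod_cast Fintype.card_pos
  have h3 : (Fintype.card α : ℤ) * Fintype.card ι ≤ ((e : ℤ) + Fintype.card ι) * Fintype.card ι := by linarith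
  exact_mod_cast le_of_mul_le_mul_right h3 hm

/-- The configurations for `e ≤ 3`. -/
theorem small_cases [Nonempty ι] (he : e ≤ 3) :
    Fintype.card α = e + Fintype.card ι ∨
      (Fintype.card α = e + 2 ∧ 3 ≤ Fintype.card ι ∧ Fintype.card ι ≤ e + 2) ∨
      (Fintype.card α = 1 ∧ Fintype.card ι = 1) := by
  classical
  have hsq : ∀ i, ∑ a, r a i ^ 2 = (e : ℤ) + 1 := fun i => by
    simp only [sq]; rw [hgram, if_pos rfl]
  have hle4 : ∀ i a, r a i ^ 2 ≤ 4 := fun i a => by
    have h := single_le_sum (f := fun a => r a i ^ 2) (fun a _ => sq_nonneg _) (mem_univ a)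
    beta_reduce at h
    rw [hsq] at h
    omega
  have hbd : ∀ i a, r a i ^ 2 = 4 → ∀ b, b ≠ a → r b i = 0 := fun i a ha b hb => by
    have h := add_le_sum (f := fun a => r a i ^ 2) (fun a _ => sq_nonneg _) (mem_univ a) (mem_univ b) (Ne.symm hb)
    rw [hsq, ha] at h
    by_contra h0
    have := mul_self_pos.mpr h0
    rw [sq] at h
    omega
  have hval : ∀ i a, r a i ^ 2 = 0 ∨ r a i ^ 2 = 1 ∨ r a i ^ 2 = 4 := fun i a => by
    have h := hle4 i a
    have h1 : -2 ≤ r a i := by nlinarith
    have h2 : r a i ≤ 2 := by nlinarith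
    interval_cases (r a i) <;> norm_num
  by_cases hsub : Fintype.card ι = 1
  · obtain ⟨i, hi⟩ := Fintype.card_eq_one_iff.mp hsub
    have hne : ∀ a, r a i ≠ 0 := fun a => by obtain ⟨j, hj⟩ := hnz a; rwa [hi j] at hj
    by_cases h4 : ∃ a, r a i ^ 2 = 4
    · obtain ⟨a, ha⟩ := h4
      exact Or.inr (Or.inr ⟨Fintype.card_eq_one_iff.mpr ⟨a, fun b => by
        by_contra hb; exact hne b (hbd i a ha b hb)⟩, hsub⟩)
    · push Not at h4
      left
      have h1 : ∀ a, r a i ^ 2 = 1 := fun a =>
        ((hval i a).resolve_left (pow_ne_zero 2 (hne a))).resolve_right (h4 a)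
      have h := hsq i
      rw [sum_congr rfl fun a _ => h1 a, sum_const, card_univ, nsmul_one] at h
      omega
  have hm : 2 ≤ Fintype.card ι := by have := Fintype.card_pos (α := ι); omega
  have hpm : ∀ i a, r a i = 0 ∨ r a i = 1 ∨ r a i = -1 := by
    intro i a
    rcases hval i a with h | h | h
    · exact Or.inl (eq_zero_of_pow_eq_zero h)
    · exact Or.inr (sq_eq_one_iff.mp h)
    · exfalso
      obtain ⟨j, hj⟩ := Fintype.exists_ne_of_one_lt_card (show 1 < Fintype.card ι by omega) i
      have hg := hgram i j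
      rw [if_neg (Ne.symm hj), add_zero, sum_eq_single a (fun b _ hb => by rw [hbd i a h b hb, zero_mul])
        (by simp)] at hg
      have he3 : e = 3 := by
        have h1 := single_le_sum (f := fun a => r a i ^ 2) (fun a _ => sq_nonneg _) (mem_univ a)
        beta_reduce at h1
        rw [hsq, h] at h1
        omega
      rcases sq_eq_sq_iff_eq_or_eq_neg.mp (h.trans (by norm_num : (4 : ℤ) = 2 ^ 2)) with h2 | h2 <;>
        rw [h2] at hg <;> omega
  obtain ⟨A, hA⟩ : ∃ A : ι → Finset α, A = fun i => univ.filter fun a => r a i ≠ 0 := ⟨_, rfl⟩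
  have hmemA : ∀ i a, a ∈ A i ↔ r a i ≠ 0 := fun i a => by simp [hA]
  have hAc : ∀ i, (A i).card = e + 1 := fun i => by
    have h := hsq i
    rw [← sum_subset (subset_univ (A i)) fun a _ ha => by
        rw [not_not.mp fun hne => ha ((hmemA i a).mpr hne)]; ring,
      sum_congr rfl fun a ha => (by
        rcases (hpm i a).resolve_left ((hmemA i a).mp ha) with h1 | h1 <;> rw [h1] <;> norm_num : r a i ^ 2 = 1),
      sum_const, nsmul_one] at h
    omega
  have hint : ∀ i j, i ≠ j → (A i ∩ A j).card = e := by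
    intro i j hij
    have h := hgram i j
    rw [if_neg hij, add_zero, ← sum_subset (subset_univ (A i ∩ A j)) fun a _ ha => by
      rw [mem_inter, hmemA, hmemA, not_and_or, not_not, not_not] at ha
      rcases ha with h1 | h1 <;> simp [h1]] at h
    have hb : ∀ a ∈ A i ∩ A j, r a i * r a j = 1 ∨ r a i * r a j = -1 := fun a ha => by
      rw [mem_inter, hmemA, hmemA] at ha
      rcases (hpm i a).resolve_left ha.1 with h1 | h1 <;>
        rcases (hpm j a).resolve_left ha.2 with h2 | h2 <;> rw [h1, h2] <;> norm_num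
    set N := (A i ∩ A j).filter fun a => r a i * r a j = -1
    have hsum : ∑ a ∈ A i ∩ A j, r a i * r a j = ((A i ∩ A j).card : ℤ) - 2 * N.card := by
      rw [card_eq_sum_ones (A i ∩ A j), card_filter, Nat.cast_sum, Nat.cast_sum, mul_sum, ← sum_sub_distrib]
      refine sum_congr rfl fun a ha => ?_
      rcases hb a ha with h1 | h1 <;> rw [h1] <;> norm_num
    rw [hsum] at h
    have := hAc i
    have := card_le_card (inter_subset_left : A i ∩ A j ⊆ A i)
    omega
  have hcov : ∀ a, ∃ i, a ∈ A i := fun a => by obtain ⟨i, hi⟩ := hnz a; exact ⟨i, (hmemA i a).mpr hi⟩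
  obtain ⟨i₁, i₂, h12⟩ := Fintype.exists_pair_of_one_lt_card (show 1 < Fintype.card ι by omega)
  set K := A i₁ ∩ A i₂ with hK
  by_cases hsun : ∀ i, K ⊆ A i
  · left
    have hex : ∀ i, ∃ x, A i \ K = {x} := fun i => card_eq_one.mp (by
      rw [card_sdiff_of_subset (hsun i), hAc, hK, hint _ _ h12]; omega)
    choose x hx using hex
    have hxinj : Function.Injective x := fun i j h => by
      by_contra hij
      have h1 : A i = A j := by
        rw [← sdiff_union_of_subset (hsun i), ← sdiff_union_of_subset (hsun j), hx, hx, h]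
      have h2 := hint i j hij
      rw [← h1, inter_self, hAc] at h2
      omega
    have hu : (univ : Finset α) = K ∪ univ.image x := by
      refine (eq_univ_of_forall fun a => ?_).symm
      obtain ⟨i, hi⟩ := hcov a
      by_cases haK : a ∈ K
      · exact mem_union_left _ haK
      · refine mem_union_right _ (mem_image.mpr ⟨i, mem_univ _, ?_⟩)
        have : a ∈ A i \ K := mem_sdiff.mpr ⟨hi, haK⟩
        rw [hx, mem_singleton] at this
        exact this.symm
    rw [← card_univ, hu, card_union_of_disjoint ?_, card_image_of_injective _ hxinj, hK, hint _ _ h12, card_univ]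
    refine disjoint_right.mpr fun a ha => ?_
    obtain ⟨i, -, rfl⟩ := mem_image.mp ha
    exact (mem_sdiff.mp (hx i ▸ mem_singleton_self (x i) : x i ∈ A i \ K)).2
  · push Not at hsun
    obtain ⟨i₃, h3⟩ := hsun
    obtain ⟨k₀, hk₀, hk₀'⟩ := not_subset.mp h3
    rw [mem_inter] at hk₀
    have h31 : i₃ ≠ i₁ := by rintro rfl; exact hk₀' hk₀.1
    have h32 : i₃ ≠ i₂ := by rintro rfl; exact hk₀' hk₀.2
    have hsubA : ∀ j, k₀ ∈ A j → i₃ ≠ j → (A j).erase k₀ ⊆ A i₃ := by
      intro j hj hne
      have h : A i₃ ∩ A j = (A j).erase k₀ := eq_of_subset_of_card_le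
        (fun a ha => mem_erase.mpr ⟨fun h => hk₀' (h ▸ (mem_inter.mp ha).1), (mem_inter.mp ha).2⟩)
        (by rw [card_erase_of_mem hj, hAc, hint _ _ hne]; omega)
      exact h ▸ inter_subset_left
    set U := A i₁ ∪ A i₂ with hU
    have hUc : U.card = e + 2 := by
      have h := card_union_add_card_inter (A i₁) (A i₂)
      rw [hAc, hAc, hint _ _ h12] at h
      rw [hU]; omega
    have hk₀U : k₀ ∈ U := mem_union_left _ hk₀.1
    have hA3 : A i₃ = U.erase k₀ := (eq_of_subset_of_card_le (fun a ha => by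
      obtain ⟨hne, ha⟩ := mem_erase.mp ha
      rcases mem_union.mp ha with h | h
      · exact hsubA i₁ hk₀.1 h31 (mem_erase.mpr ⟨hne, h⟩)
      · exact hsubA i₂ hk₀.2 h32 (mem_erase.mpr ⟨hne, h⟩))
      (by rw [hAc, card_erase_of_mem hk₀U, hUc]; omega)).symm
    have hall : ∀ i, A i ⊆ U := by
      intro i a ha
      by_contra haU
      have hi1 : i ≠ i₁ := by rintro rfl; exact haU (mem_union_left _ ha)
      have hi2 : i ≠ i₂ := by rintro rfl; exact haU (mem_union_right _ ha)
      have hi3 : i ≠ i₃ := by rintro rfl; rw [hA3] at ha; exact haU (mem_erase.mp ha).2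
      have he1 : ∀ j, i ≠ j → A j ⊆ U → (A i).erase a = A i ∩ A j := fun j hj hjU =>
        (eq_of_subset_of_card_le (fun b hb => mem_erase.mpr ⟨fun h => haU (by rw [← h]; exact hjU (mem_inter.mp hb).2),
          (mem_inter.mp hb).1⟩) (by rw [card_erase_of_mem ha, hAc, hint _ _ hj]; omega)).symm
      have s1 : (A i).erase a ⊆ K := fun b hb => mem_inter.mpr
        ⟨(mem_inter.mp (he1 i₁ hi1 subset_union_left ▸ hb)).2,
          (mem_inter.mp (he1 i₂ hi2 subset_union_right ▸ hb)).2⟩
      have s2 : (A i).erase a = K := eq_of_subset_of_card_le s1 (by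
        rw [card_erase_of_mem ha, hAc, hK, hint _ _ h12]; omega)
      have : k₀ ∈ A i ∩ A i₃ := by
        rw [← he1 i₃ hi3 (hA3 ▸ erase_subset _ _), s2]; exact mem_inter.mpr hk₀
      exact hk₀' (mem_inter.mp this).2
    refine Or.inr (Or.inl ⟨?_, ?_, ?_⟩)
    · rw [← card_univ, show (univ : Finset α) = U from ((eq_univ_of_forall fun a => ?_)).symm, hUc]
      obtain ⟨i, hi⟩ := hcov a
      exact hall i hi
    · have := card_le_univ ({i₁, i₂, i₃} : Finset ι)
      rwa [card_insert_of_notMem (by simp [h12, Ne.symm h31]), card_pair (Ne.symm h32)] at this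
    · have hAinj : Function.Injective A := fun i j h => by
        by_contra hij
        have h2 := hint i j hij
        rw [← h, inter_self, hAc] at h2
        omega
      have h := card_le_card_of_injOn A (s := (univ : Finset ι)) (t := U.powersetCard (e + 1))
        (fun i _ => mem_powersetCard.mpr ⟨hall i, hAc i⟩) hAinj.injOn
      rwa [card_univ, card_powersetCard, hUc, show e + 2 = (e + 1) + 1 from rfl, Nat.choose_succ_self_right] at h

end CfsgLib.Blocks.RowBound
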