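import Cfsg.Agent.Lib.Blocks.CyclicOrbits
import Cfsg.Agent.Lib.Blocks.FreeInertia.RowBound
import Cfsg.Agent.Lib.NilBlock.RingP
import Cfsg.Agent.Lib.CharNormal.Galois

/-!
# Functions on an abelian `p`-group away from the identity

* `exists_coeff`: algebraic integral values, compatibility with the automorphisms of `ℂ` and local integrality
  give an integral combination of the linear characters;
* `unit_shape`: if moreover the values have modulus one, it is a linear character up to a sign;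
* `res_const`: the residues of a member of the pairing ring are constant.
-/

set_option autoImplicit false

noncomputable section

namespace CfsgLib.Blocks.FreeInertia

open Cfsg CfsgLib.Blocks CfsgLib.Char CfsgLib.NilBlock
open scoped ComplexConjugate Classical

theorem exists_root_exp (σ : ℂ ≃+* ℂ) {n : ℕ} (hn : n ≠ 0) :
    ∃ k : ℕ, k.Coprime n ∧ ∀ z : ℂ, z ^ n = 1 → σ z = z ^ k := by
  have hζ := Complex.isPrimitiveRoot_exp n hn
  have : NeZero n := ⟨hn⟩
  obtain ⟨k, -, hk, hkζ⟩ := hζ.isPrimitiveRoot_iff.mp (hζ.map_of_injective σ.injective)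
  refine ⟨k, hk, fun z hz => ?_⟩
  obtain ⟨i, -, rfl⟩ := hζ.eq_pow_of_pow_eq_one hz
  rw [map_pow, ← hkζ, ← pow_mul, ← pow_mul, mul_comm k i]

/-- An algebraic integer fixed by all automorphisms is an integer. -/
theorem exists_int_of_fixed {x : ℂ} (hint : IsIntegral ℤ x) (h : ∀ σ : ℂ ≃+* ℂ, σ x = x) :
    ∃ m : ℤ, x = m := by
  let L : IntermediateField ℚ ℂ := algebraicClosure ℚ ℂ
  have hL : IsAlgClosure ℚ L := algebraicClosure.isAlgClosure ℚ ℂ
  have : Normal ℚ L := IsAlgClosure.normal ℚ L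
  have : Algebra.IsSeparable ℚ L := IsAlgClosure.separable ℚ L
  let x' : L := ⟨x, (mem_algebraicClosure_iff' ..).mpr hint.tower_top⟩
  have hxb : x' ∈ (⊥ : Subalgebra ℚ L) := by
    by_contra hx
    obtain ⟨y, hne, hy⟩ := (notMem_iff_exists_ne_and_isConjRoot (Algebra.IsSeparable.isSeparable ℚ x')
      (Normal.splits inferInstance x')).mp hx
    obtain ⟨τ, hτ⟩ := hy.exists_algEquiv
    obtain ⟨σ, hσ⟩ := CfsgLib.CharNormal.exists_ringEquiv_extend τ.toRingEquiv
    have h3 : τ x' = x' := Subtype.ext ((hσ x').symm.trans (h σ))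
    exact hne (τ.injective (h3.trans hτ.symm))
  obtain ⟨q, hq⟩ := Algebra.mem_bot.mp hxb
  have hq' : algebraMap ℚ ℂ q = x := congrArg (fun z : L => (z : ℂ)) hq
  rw [← hq'] at hint
  obtain ⟨m, hm⟩ := IsIntegrallyClosed.isIntegral_iff.mp
    ((isIntegral_algebraMap_iff (algebraMap ℚ ℂ).injective).mp hint)
  exact ⟨m, by rw [← hq', ← hm]; simp⟩

variable {M : Ideal AlgInt} [M.IsMaximal] {p : ℕ} [hp : Fact p.Prime] {P : Type*} [Group P] [Fintype P]

theorem int_div_of_mem (hM : IsPModular p M) : ∀ (k : ℕ) {x : ℂ}, x ∈ locRing M → ∀ {m : ℤ},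
    (p ^ k : ℕ) * x = m → ∃ n : ℤ, x = n
  | 0, x, _, m, h => ⟨m, by rw [← h]; simp⟩
  | k + 1, x, hx, m, h => by
    have h1 : ((m : ℤ) : locRing M) = ((p ^ (k + 1) : ℕ) : locRing M) * ⟨x, hx⟩ :=
      Subtype.ext (by simpa using h.symm)
    have h2 := congrArg (res M) h1
    rw [map_mul, (res_natCast_eq_zero_iff M hM _).mpr (dvd_pow_self p k.succ_ne_zero), zero_mul,
      res_intCast_eq_zero_iff M hM] at h2
    obtain ⟨j, rfl⟩ := h2
    refine int_div_of_mem hM k hx (m := j) (mul_left_cancel₀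
      (show (p : ℂ) ≠ 0 from Nat.cast_ne_zero.mpr hp.out.ne_zero) ?_)
    rw [← mul_assoc]
    push_cast at h ⊢
    rw [← h, pow_succ]; ring

variable (hab : ∀ x y : P, x * y = y * x)
include hab

omit hp in
theorem irr_pow (μ : IrrCharacter P) (y : P) (n : ℕ) : (μ : P → ℂ) (y ^ n) = ((μ : P → ℂ) y) ^ n := by
  induction n with
  | zero => rw [pow_zero, pow_zero, irr_one_eq_one_of_comm hab μ.2]
  | succ n ih => rw [pow_succ, CyclicOrbits.irr_mul hab, ih, pow_succ]

omit hp in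
theorem irr_pow_card (μ : IrrCharacter P) (y : P) : ((μ : P → ℂ) y) ^ Nat.card P = 1 := by
  rw [← irr_pow hab, pow_card_eq_one', irr_one_eq_one_of_comm hab μ.2]

omit hp in
theorem second_orth (x y : P) :
    ∑ μ : IrrCharacter P, (μ : P → ℂ) x * conj ((μ : P → ℂ) y) = if x = y then (Nat.card P : ℂ) else 0 := by
  have h : ∀ μ : IrrCharacter P, (μ : P → ℂ) x * conj ((μ : P → ℂ) y) = (μ : P → ℂ) (x * y⁻¹) := fun μ => by
    rw [CyclicOrbits.irr_mul hab, char_inv (isCharacter_of_isIrr μ.2)]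
  simp only [h]
  split_ifs with hxy
  · simp only [hxy, mul_inv_cancel, fun μ : IrrCharacter P => irr_one_eq_one_of_comm hab μ.2]
    rw [Finset.sum_const, Finset.card_univ, nsmul_one, ← Nat.card_eq_fintype_card,
      CyclicOrbits.card_irr_of_comm hab]
  · exact CyclicOrbits.sum_irr_apply hab fun h => hxy (mul_inv_eq_one.mp h)

/-- **Integral expansions.** -/
theorem exists_coeff (hM : IsPModular p M) {d : ℕ} (hcard : Nat.card P = p ^ d) {g H : P → ℂ}
    (hH : H ∈ pairingRing M P) (hgH : ∀ y, y ≠ 1 → g y = H y) (hint : ∀ y, y ≠ 1 → IsIntegral ℤ (g y))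
    (hgal : ∀ (σ : ℂ ≃+* ℂ) (k : ℕ), k.Coprime (Nat.card P) → (∀ z : ℂ, z ^ Nat.card P = 1 → σ z = z ^ k) →
      ∀ y, y ≠ 1 → σ (g y) = g (y ^ k)) :
    ∃ a : IrrCharacter P → ℤ,
      (∀ μ : IrrCharacter P,
        (a μ : ℂ) = (Nat.card P : ℂ)⁻¹ * ∑ y, g y * (conj ((μ : P → ℂ) y) - 1)) ∧
      ∀ y, y ≠ 1 → g y = ∑ μ : IrrCharacter P, (a μ : ℂ) * (μ : P → ℂ) y := by
  have hN : (Nat.card P : ℂ) ≠ 0 := card_ne_zero'
  have hterm : ∀ (μ : IrrCharacter P) (f : P → ℂ), f 1 * (conj ((μ : P → ℂ) 1) - 1) = 0 := fun μ f => by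
    rw [irr_one_eq_one_of_comm hab μ.2, map_one, sub_self, mul_zero]
  have hex : ∀ μ : IrrCharacter P, ∃ n : ℤ,
      (Nat.card P : ℂ)⁻¹ * ∑ y, g y * (conj ((μ : P → ℂ) y) - 1) = n := by
    intro μ
    obtain ⟨S, hS⟩ : ∃ S : ℂ, S = ∑ y, g y * (conj ((μ : P → ℂ) y) - 1) := ⟨_, rfl⟩
    rw [← hS]
    have hSint : IsIntegral ℤ S := by
      rw [hS]
      refine IsIntegral.sum _ fun y _ => ?_
      by_cases hy : y = 1
      · rw [hy, hterm]; exact isIntegral_zero
      · exact (hint y hy).mul (((map_isIntegral_int (starRingEnd ℂ)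
          (char_isIntegral (isCharacter_of_isIrr μ.2) y))).sub isIntegral_one)
    have hfix : ∀ σ : ℂ ≃+* ℂ, σ S = S := by
      intro σ
      obtain ⟨k, hk, hσ⟩ := exists_root_exp σ (Nat.card_pos.ne' : Nat.card P ≠ 0)
      rw [hS, map_sum]
      refine Fintype.sum_equiv (powCoprime hk.symm) _ _ fun y => ?_
      rw [powCoprime_apply]
      by_cases hy : y = 1
      · rw [hy, one_pow, hterm, map_zero]
      · rw [map_mul, map_sub, map_one, hgal σ k hk hσ y hy, ← char_inv (isCharacter_of_isIrr μ.2),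
          hσ _ (irr_pow_card hab μ y⁻¹), ← char_inv (isCharacter_of_isIrr μ.2), ← irr_pow hab, inv_pow]
    obtain ⟨m, hm⟩ := exists_int_of_fixed hSint hfix
    refine int_div_of_mem hM d ?_ (m := m) ?_
    · have h1 : S = ∑ y, H y * conj ((μ : P → ℂ) y) - ∑ y, H y := by
        rw [hS, ← Finset.sum_sub_distrib]
        refine Finset.sum_congr rfl fun y _ => ?_
        by_cases hy : y = 1
        · rw [hy, hterm, irr_one_eq_one_of_comm hab μ.2, map_one, mul_one, sub_self]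
        · rw [hgH y hy]; ring
      rw [h1, mul_sub]
      refine Subring.sub_mem _ ?_ ?_
      · exact hH.2 _ (isCharacter_conj (isCharacter_of_isIrr μ.2))
      · simpa using hH.2 (fun _ => 1) (isCharacter_one (G := P))
    · rw [← hcard, hm, ← mul_assoc, mul_inv_cancel₀ hN, one_mul]
  choose a ha using hex
  refine ⟨a, fun μ => (ha μ).symm, fun y hy => ?_⟩
  simp only [← ha, Finset.mul_sum, Finset.sum_mul]
  rw [Finset.sum_comm, Finset.sum_eq_single y]
  · have h : ∀ μ : IrrCharacter P, (Nat.card P : ℂ)⁻¹ * (g y * (conj ((μ : P → ℂ) y) - 1)) * (μ : P → ℂ) y =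
        (Nat.card P : ℂ)⁻¹ * g y * ((μ : P → ℂ) y * conj ((μ : P → ℂ) y)) -
          (Nat.card P : ℂ)⁻¹ * g y * (μ : P → ℂ) y := fun μ => by ring
    simp only [h, Finset.sum_sub_distrib, ← Finset.mul_sum]
    rw [CyclicOrbits.sum_irr_apply hab hy, second_orth hab, if_pos rfl]
    field_simp
    ring
  · intro x _ hx
    by_cases hx1 : x = 1
    · simp [hx1, irr_one_eq_one_of_comm hab, fun μ : IrrCharacter P => irr_one_eq_one_of_comm hab μ.2]
    have h : ∀ μ : IrrCharacter P, (Nat.card P : ℂ)⁻¹ * (g x * (conj ((μ : P → ℂ) x) - 1)) * (μ : P → ℂ) y =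
        (Nat.card P : ℂ)⁻¹ * g x * ((μ : P → ℂ) y * conj ((μ : P → ℂ) x)) -
          (Nat.card P : ℂ)⁻¹ * g x * (μ : P → ℂ) y := fun μ => by ring
    simp only [h, Finset.sum_sub_distrib, ← Finset.mul_sum]
    rw [CyclicOrbits.sum_irr_apply hab hy, second_orth hab, if_neg (Ne.symm hx)]
    ring
  · simp

omit hp in
/-- **Unit values.** -/
theorem unit_shape {g : P → ℂ} {a : IrrCharacter P → ℤ}
    (hexp : ∀ y, y ≠ 1 → g y = ∑ μ : IrrCharacter P, (a μ : ℂ) * (μ : P → ℂ) y)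
    (hunit : ∀ y, y ≠ 1 → g y * conj (g y) = 1) :
    ∃ (ε : ℤ) (μ : IrrCharacter P), (ε = 1 ∨ ε = -1) ∧ ∀ y, y ≠ 1 → g y = ε * (μ : P → ℂ) y := by
  have hne : Nonempty (IrrCharacter P) := ⟨irrOne⟩
  have hcard : Fintype.card (IrrCharacter P) = Nat.card P := by
    rw [← Nat.card_eq_fintype_card, CyclicOrbits.card_irr_of_comm hab]
  obtain ⟨F, hF⟩ : ∃ F : P → ℂ, F = fun y => ∑ μ : IrrCharacter P, (a μ : ℂ) * (μ : P → ℂ) y := ⟨_, rfl⟩
  have h1 : ∑ y, F y * conj (F y) = (Nat.card P : ℂ) * ((∑ μ, a μ ^ 2 : ℤ) : ℂ) := by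
    simp only [hF, map_sum, map_mul, map_intCast, Finset.sum_mul_sum]
    rw [Finset.sum_comm, Finset.sum_congr rfl fun μ _ => Finset.sum_comm, Int.cast_sum, Finset.mul_sum]
    refine Finset.sum_congr rfl fun μ _ => ?_
    rw [Finset.sum_eq_single μ]
    · have h := classInner_irr_self μ.2
      rw [classInner_def, inv_mul_eq_one₀ card_ne_zero'] at h
      rw [h, Finset.sum_mul]
      push_cast
      exact Finset.sum_congr rfl fun y _ => by ring
    · intro ν _ hν
      have h := classInner_irr_ne μ.2 ν.2 fun he => hν (Subtype.ext he).symm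
      rw [classInner_def, mul_eq_zero] at h
      have h' := h.resolve_left (inv_ne_zero card_ne_zero')
      rw [show (0 : ℂ) = (a μ : ℂ) * (a ν : ℂ) * ∑ y, (μ : P → ℂ) y * conj ((ν : P → ℂ) y) by rw [h', mul_zero],
        Finset.mul_sum]
      exact Finset.sum_congr rfl fun y _ => by ring
    · simp
  have hF1 : F 1 = ((∑ μ, a μ : ℤ) : ℂ) := by
    simp only [hF, fun μ : IrrCharacter P => irr_one_eq_one_of_comm hab μ.2, mul_one, Int.cast_sum]
  have hdev : RowBound.dev a = (Fintype.card (IrrCharacter P) : ℤ) - 1 := by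
    rw [← Finset.add_sum_erase _ _ (Finset.mem_univ (1 : P)), hF1, map_intCast,
      Finset.sum_congr rfl fun y hy => show F y * conj (F y) = 1 by
        have hy1 := (Finset.mem_erase.mp hy).1
        rw [hF]
        show (∑ μ : IrrCharacter P, (a μ : ℂ) * (μ : P → ℂ) y) *
          conj (∑ μ : IrrCharacter P, (a μ : ℂ) * (μ : P → ℂ) y) = 1
        rw [← hexp y hy1, hunit y hy1],
      Finset.sum_const, nsmul_one, Finset.card_erase_of_mem (Finset.mem_univ _), Finset.card_univ,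
      ← Nat.card_eq_fintype_card, Nat.cast_sub Nat.card_pos] at h1
    apply Int.cast_injective (α := ℂ)
    rw [RowBound.dev, hcard]
    push_cast at h1 ⊢
    linear_combination -h1
  obtain ⟨j, c, ε, hε, hshape⟩ := RowBound.shape_of_dev_eq a hdev
  refine ⟨ε, j, hε, fun y hy => ?_⟩
  rw [hexp y hy]
  simp only [hshape, Int.cast_add, add_mul, Finset.sum_add_distrib, ← Finset.mul_sum,
    CyclicOrbits.sum_irr_apply hab hy, mul_zero, zero_add]
  rw [Finset.sum_eq_single j (fun ν _ hν => by rw [if_neg hν, Int.cast_zero, zero_mul]) (by simp), if_pos rfl]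

/-- The residues are constant. -/
theorem res_const (hM : IsPModular p M) {d : ℕ} (hcard : Nat.card P = p ^ d) {f : P → ℂ}
    (hf : f ∈ pairingRing M P) (y : P) :
    ∃ (h : f y ∈ locRing M) (h1 : f 1 ∈ locRing M), res M ⟨f y, h⟩ = res M ⟨f 1, h1⟩ := by
  have hc : ∀ μ : IrrCharacter P, classInner f (μ : P → ℂ) ∈ locRing M := fun μ => by
    rw [classInner_def]
    exact hf.2 _ (isCharacter_conj (isCharacter_of_isIrr μ.2))
  have hm : ∀ (μ : IrrCharacter P) z, (μ : P → ℂ) z ∈ locRing M := fun μ z =>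
    algInt_le_locRing M (char_isIntegral (isCharacter_of_isIrr μ.2) z)
  obtain ⟨Φ, hΦ⟩ : ∃ Φ : P → locRing M, Φ = fun z => ∑ μ : IrrCharacter P, ⟨_, hc μ⟩ * ⟨_, hm μ z⟩ := ⟨_, rfl⟩
  have hcoe : ∀ z, ((Φ z : locRing M) : ℂ) = f z := fun z => by
    have h := congrFun (classFun_eq_sum hf.1) z
    simp only [Finset.sum_apply, Pi.smul_apply, smul_eq_mul] at h
    rw [hΦ, AddSubmonoidClass.coe_finsetSum, h]
    rfl
  have hres : ∀ z, res M (Φ z) = ∑ μ : IrrCharacter P, res M ⟨_, hc μ⟩ := fun z => by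
    rw [hΦ, map_sum]
    refine Finset.sum_congr rfl fun μ _ => ?_
    rw [map_mul, res_pPow_rootOfUnity M hM (k := d) (z := ⟨_, hm μ z⟩)
      (Subtype.ext (by rw [SubmonoidClass.coe_pow, ← hcard]; exact irr_pow_card hab μ z)), mul_one]
  refine ⟨hcoe y ▸ (Φ y).2, hcoe 1 ▸ (Φ 1).2, ?_⟩
  rw [show (⟨f y, _⟩ : locRing M) = Φ y from Subtype.ext (hcoe y).symm,
    show (⟨f 1, _⟩ : locRing M) = Φ 1 from Subtype.ext (hcoe 1).symm, hres, hres]

omit hp hab in
theorem comp_mem_pairingRing {f : P → ℂ} (hf : f ∈ pairingRing M P) (φ : P ≃* P) :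
    (fun y => f (φ y)) ∈ pairingRing M P := by
  refine ⟨fun a b => by simp only [map_mul, map_inv]; exact hf.1 _ _, fun θ hθ => ?_⟩
  have h := hf.2 (fun y => θ (φ.symm y)) (isCharacter_comp hθ φ.symm.toMonoidHom)
  convert h using 2
  exact Fintype.sum_equiv φ.toEquiv _ _ fun y => by simp

end CfsgLib.Blocks.FreeInertia
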