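import Cfsg.Agent.Lib.Blocks.FreeInertia.Local
import Mathlib.Algebra.BigOperators.Ring.Finset

/-!
# Gluing the section coefficients

An alternating product over the sets of elements of order `p` of the local functions turns the section
coefficients into one function with an integral expansion in the characters of `P`; a twist by a linear
character makes it invariant under the inertial quotient.

* `exists_glued`: the result.
-/

set_option autoImplicit false
set_option maxHeartbeats 1000000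

noncomputable section

namespace CfsgLib.Blocks.FreeInertia

open Cfsg CfsgLib.Blocks CfsgLib.BlockArith CfsgLib.Char CfsgLib.BrauerPairs CfsgLib.NilBlock
open scoped ComplexConjugate Classical

universe u

/-- Alternating products cancel. -/
theorem prod_alt_eq_one {α : Type*} [DecidableEq α] (s : Finset α) {z : α} (hz : z ∈ s) (g : Finset α → ℂ)
    (hg : ∀ t ⊆ s, g t ≠ 0) (hins : ∀ t ⊆ s, g (insert z t) = g t) :
    ∏ t ∈ s.powerset, (if Even t.card then g t else (g t)⁻¹) = 1 := by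
  rw [← Finset.insert_erase hz, Finset.prod_powerset_insert (Finset.notMem_erase z s), ← Finset.prod_mul_distrib]
  refine Finset.prod_eq_one fun t ht => ?_
  have hts : t ⊆ s := (Finset.mem_powerset.mp ht).trans (Finset.erase_subset _ _)
  have hzt : z ∉ t := fun h => Finset.notMem_erase z s (Finset.mem_powerset.mp ht h)
  simp only [hins t hts, Finset.card_insert_of_notMem hzt, Nat.even_add_one]
  by_cases he : Even t.card
  · rw [if_pos he, if_neg (not_not.mpr he), mul_inv_cancel₀ (hg t hts)]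
  · rw [if_neg he, if_pos he, inv_mul_cancel₀ (hg t hts)]

variable {G : Type u} [Group G] [Fintype G] {p : ℕ} [hp : Fact p.Prime] {M : Ideal AlgInt} [M.IsMaximal]
  {B : Set (IrrCharacter G)} {P : Subgroup G} {c : Set (IrrCharacter (Cen P))}

/-- A unit of the local ring. -/
def IsLU (M : Ideal AlgInt) [M.IsMaximal] (z : ℂ) : Prop := ∃ h : z ∈ locRing M, res M ⟨z, h⟩ ≠ 0

omit hp in
theorem IsLU.ne_zero {z : ℂ} (h : IsLU M z) : z ≠ 0 := by
  obtain ⟨hm, hr⟩ := h
  intro h0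
  exact hr (by rw [show (⟨z, hm⟩ : locRing M) = 0 from Subtype.ext h0, map_zero])

omit hp in
theorem IsLU.mul {z w : ℂ} (h : IsLU M z) (h' : IsLU M w) : IsLU M (z * w) := by
  obtain ⟨hm, hr⟩ := h
  obtain ⟨hm', hr'⟩ := h'
  refine ⟨Subring.mul_mem _ hm hm', ?_⟩
  rw [show (⟨z * w, _⟩ : locRing M) = ⟨z, hm⟩ * ⟨w, hm'⟩ from rfl, map_mul]
  exact mul_ne_zero hr hr'

omit hp in
theorem IsLU.of_mul {z w : ℂ} (hz : z ∈ locRing M) (hw : w ∈ locRing M) (h : IsLU M (z * w)) : IsLU M w := by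
  obtain ⟨hm, hr⟩ := h
  refine ⟨hw, fun h0 => hr ?_⟩
  rw [show (⟨z * w, hm⟩ : locRing M) = ⟨z, hz⟩ * ⟨w, hw⟩ from rfl, map_mul, h0, mul_zero]

omit hp in
theorem IsLU.inv {z : ℂ} (h : IsLU M z) : IsLU M z⁻¹ := by
  have hz := h.ne_zero
  obtain ⟨hm, hr⟩ := h
  obtain ⟨w, hw⟩ := ((isUnit_iff_res_ne_zero M _).mpr hr).exists_right_inv
  have hwz : (w : ℂ) = z⁻¹ := eq_inv_of_mul_eq_one_right (congrArg Subtype.val hw)
  refine ⟨hwz ▸ w.2, ?_⟩
  rw [show (⟨z⁻¹, _⟩ : locRing M) = w from Subtype.ext hwz.symm]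
  intro h0
  have h1 := congrArg (res M) hw
  rw [map_mul, map_one, h0, mul_zero] at h1
  exact zero_ne_one h1

omit hp in
theorem isLU_of_unit {z : ℂ} (hz : IsIntegral ℤ z) (h : z * conj z = 1) : IsLU M z := by
  refine ⟨algInt_le_locRing M hz, fun h0 => ?_⟩
  have h1 : (⟨z, algInt_le_locRing M hz⟩ : locRing M) *
      ⟨conj z, algInt_le_locRing M (map_isIntegral_int (starRingEnd ℂ) hz)⟩ = 1 := Subtype.ext h
  have h2 := congrArg (res M) h1
  rw [map_mul, map_one, h0, zero_mul] at h2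
  exact zero_ne_one h2

variable (D : Hyp p M B P c)
include D

omit hp in
theorem Hyp.pow_card {y : G} (hy : y ∈ P) : y ^ Nat.card P = 1 := by
  have h := pow_card_eq_one' (x := (⟨y, hy⟩ : P))
  have h1 := congrArg Subtype.val h
  rw [SubmonoidClass.coe_pow, Subgroup.coe_one] at h1
  exact h1

omit hp in
theorem Hyp.card_ne : Nat.card P ≠ 0 := Nat.card_pos.ne'

theorem Hyp.zpowers_pow_coprime {y : G} (hy : y ∈ P) {k : ℕ} (hk : k.Coprime (Nat.card P)) :
    Subgroup.zpowers (y ^ k) = Subgroup.zpowers y := by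
  obtain ⟨m, hm⟩ := exists_pow_eq_self_of_coprime (x := y) (n := k)
    (hk.coprime_dvd_right (orderOf_dvd_of_pow_eq_one (D.pow_card hy)))
  exact le_antisymm (Subgroup.zpowers_le.mpr (pow_mem (Subgroup.mem_zpowers y) k))
    (Subgroup.zpowers_le.mpr (by
      have h : (y ^ k) ^ m ∈ Subgroup.zpowers (y ^ k) := pow_mem (Subgroup.mem_zpowers _) m
      rwa [hm] at h))

theorem Hyp.nu_mem {R : Subgroup G} : D.nu R ∈ locRing M :=
  Subring.sum_mem _ fun k _ => Subring.mul_mem _ ((D.jR R).coeff k).2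
    (algInt_le_locRing M (char_isIntegral (isCharacter_of_isIrr (D.eta R).2) k))

theorem Hyp.coef_bR_congr {R R' : Subgroup G} (h : R = R') (θ : G → ℂ) (z : G) :
    coef (D.bR R) θ z = coef (D.bR R') θ z := by subst h; rfl

/-- The coefficient of `χ` on the section of `y`. -/
def Hyp.f₀ (χ : IrrCharacter G) (y : P) : ℂ :=
  coef (D.bR (Subgroup.zpowers (y : G))) (χ : G → ℂ) (y : G)

theorem Hyp.isIntegral_f₀ (χ : IrrCharacter G) (y : P) : IsIntegral ℤ (D.f₀ χ y) :=
  isIntegral_coef (isCharacter_res _ (isCharacter_of_isIrr χ.2)) (Subgroup.mem_zpowers _)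
    (D.le_cen (Subgroup.zpowers_le.mpr y.2) y.2) D.card_ne (D.pow_card y.2)

theorem Hyp.F_one_isLU {χ : IrrCharacter G} (hχ : χ ∈ B) (h0 : blockHeight p B (χ : G → ℂ) = 0) :
    IsLU M (D.F χ 1) := by
  have hF := D.isCharacter_F χ
  refine ⟨(cvalR M hF 1).2, ?_⟩
  show res M (cvalR M hF 1) ≠ 0
  have hv : cvalR M hF 1 = ∑ g : G, D.idm.coeff g * cvalR M (isCharacter_of_isIrr χ.2) g := by
    refine Subtype.ext ?_
    rw [coe_cvalR, AddSubmonoidClass.coe_finsetSum]
    show charLin (χ : G → ℂ) (MonoidAlgebra.single ((1 : P) : G) 1 * toCA M G D.idm) = _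
    rw [Subgroup.coe_one, ← MonoidAlgebra.one_def, one_mul, charLin_apply]
    simp
  rw [hv, map_sum]
  simp only [map_mul, ← coeff_redLA]
  have : CharP (Res M) p := res_charP M D.hM
  let _ : MulAction P G := MulAction.compHom G (MulAut.conj.comp P.subtype)
  have hsm : ∀ (w : P) (g : G), w • g = (w : G) * g * (w : G)⁻¹ := fun _ _ => rfl
  rw [sum_eq_sum_fixedPoints (p := p) D.isPGroup _ fun w g => ?_, Finset.sum_filter]
  · refine fun hz => D.idm_nonvanish hχ h0 (Eq.trans (Finset.sum_congr rfl fun g _ => ?_) hz)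
    by_cases hg : g ∈ Cen P
    · rw [if_pos (show g ∈ MulAction.fixedPoints P G from MulAction.mem_fixedPoints.mpr fun w => by
        rw [hsm]; exact mul_inv_eq_iff_eq_mul.mpr (Subgroup.mem_centralizer_iff.mp hg w w.2)),
        coeff_br, if_pos hg]
    · rw [if_neg (show g ∉ MulAction.fixedPoints P G from fun h =>
        hg (Subgroup.mem_centralizer_iff.mpr fun w hw =>
          mul_inv_eq_iff_eq_mul.mp (MulAction.mem_fixedPoints.mp h ⟨w, hw⟩))), coeff_br, if_neg hg, zero_mul]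
  · rw [hsm]
    congr 1
    · rw [coeff_redLA, coeff_redLA, (commute_single_iff D.idm (w : G)).mp (D.idm_comm w.2) g]
    · exact congrArg (res M) (Subtype.ext (isClassFunction_of_isIrr χ.2 g w))

theorem Hyp.exists_card : ∃ d : ℕ, Nat.card P = p ^ d := IsPGroup.iff_card.mp D.isPGroup

theorem Hyp.isLU_of_one {f : P → ℂ} (hf : f ∈ pairingRing M P) (h1 : IsLU M (f 1)) (y : P) :
    IsLU M (f y) := by
  obtain ⟨d, hd⟩ := D.exists_card
  obtain ⟨h, h', he⟩ := res_const D.comm D.hM hd hf y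
  exact ⟨h, by rw [he]; exact h1.2⟩

theorem Hyp.F_isLU {χ : IrrCharacter G} (hχ : χ ∈ B) (h0 : blockHeight p B (χ : G → ℂ) = 0) (y : P) :
    IsLU M (D.F χ y) :=
  D.isLU_of_one (char_mem_pairingRing (D.isCharacter_F χ)) (D.F_one_isLU hχ h0) y

theorem Hyp.f₀_isLU {χ : IrrCharacter G} (hχ : χ ∈ B) (h0 : blockHeight p B (χ : G → ℂ) = 0) {y : P}
    (hy : y ≠ 1) : IsLU M (D.f₀ χ y) := by
  have h := D.F_isLU hχ h0 y
  rw [D.F_eval hy, mul_comm] at h
  exact h.of_mul D.nu_mem (algInt_le_locRing M (D.isIntegral_f₀ χ y))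

theorem Hyp.isIntegral_theta_coef {Q : Subgroup G} (hQ : Q ≤ P) (y z : P)
    (hz : (z : G) ∈ Q ⊔ Subgroup.zpowers (y : G)) :
    IsIntegral ℤ (coef (D.bR (Q ⊔ Subgroup.zpowers (y : G))) (D.theta Q) (z : G)) :=
  isIntegral_coef (D.isCharacter_theta le_sup_left) hz
    (D.le_cen (sup_le hQ (Subgroup.zpowers_le.mpr y.2)) z.2) D.card_ne (D.pow_card z.2)

theorem Hyp.nu_sup_isLU {Q : Subgroup G} (hQ : Q ≤ P) (hne : Q ≠ ⊥) (hnu : IsLU M (D.nu Q)) (y : P) :
    IsLU M (D.Gf Q y) ∧ IsLU M (D.nu (Q ⊔ Subgroup.zpowers (y : G))) := by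
  have hc : ∀ z : P, IsLU M (coef (D.bR (Q ⊔ Subgroup.zpowers (z : G))) (D.theta Q) (z : G)) := fun z =>
    isLU_of_unit (D.isIntegral_theta_coef hQ z z (le_sup_right (a := Q) (Subgroup.mem_zpowers _)))
      (D.Gf_eval hQ hne z).2
  have h1 : IsLU M (D.Gf Q 1) := by
    rw [(D.Gf_eval hQ hne 1).1]
    refine (hc 1).mul ?_
    rwa [Subgroup.coe_one, Subgroup.zpowers_one_eq_bot, sup_bot_eq]
  have hy := D.isLU_of_one (char_mem_pairingRing (D.isCharacter_Gf hQ)) h1 y
  refine ⟨hy, ?_⟩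
  rw [(D.Gf_eval hQ hne y).1] at hy
  exact hy.of_mul (hc y).1 D.nu_mem

/-- All the scalars are units. -/
theorem Hyp.nu_isLU {R : Subgroup G} (hR : R ≤ P) (hne : R ≠ ⊥) : IsLU M (D.nu R) := by
  obtain ⟨x, hx, hx1⟩ : ∃ x ∈ R, x ≠ 1 := by
    by_contra! h
    exact hne ((Subgroup.eq_bot_iff_forall R).mpr h)
  obtain ⟨χ, hχ, h0⟩ := exists_height_zero D.hM D.hmax.1.2.1
  have hy1 : (⟨x, hR hx⟩ : P) ≠ 1 := fun h => hx1 (congrArg Subtype.val h)
  have hbase : IsLU M (D.nu (Subgroup.zpowers x)) := by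
    have h := D.F_isLU hχ h0 ⟨x, hR hx⟩
    rw [D.F_eval hy1] at h
    exact h.of_mul (algInt_le_locRing M (D.isIntegral_f₀ χ ⟨x, hR hx⟩)) D.nu_mem
  have key : ∀ s : Finset G, (∀ g ∈ s, g ∈ R) →
      IsLU M (D.nu (Subgroup.zpowers x ⊔ Subgroup.closure (s : Set G))) := by
    intro s
    induction s using Finset.induction_on with
    | empty => intro _; rwa [Finset.coe_empty, Subgroup.closure_empty, sup_bot_eq]
    | insert a s _ ih =>
      intro hs
      have hsR : ∀ g ∈ s, g ∈ R := fun g hg => hs g (Finset.mem_insert_of_mem hg)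
      have h := (D.nu_sup_isLU (sup_le (Subgroup.zpowers_le.mpr (hR hx))
        ((Subgroup.closure_le _).mpr fun g hg => hR (hsR g hg)))
        (fun h => hx1 (Subgroup.zpowers_eq_bot.mp (le_bot_iff.mp (h ▸ le_sup_left)))) (ih hsR)
        ⟨a, hR (hs a (Finset.mem_insert_self _ _))⟩).2
      rwa [Finset.coe_insert, Set.insert_eq, Subgroup.closure_union, ← Subgroup.zpowers_eq_closure,
        sup_comm (Subgroup.zpowers a), ← sup_assoc]
  have h := key (Finset.univ.filter (· ∈ R)) fun g hg => (Finset.mem_filter.mp hg).2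
  rwa [Finset.coe_filter, show {g : G | g ∈ Finset.univ ∧ g ∈ R} = (R : Set G) by ext; simp,
    Subgroup.closure_eq, sup_eq_right.mpr (Subgroup.zpowers_le.mpr hx)] at h

/-- The elements of order `p` of `P`. -/
def omega (p : ℕ) (P : Subgroup G) : Finset G := Finset.univ.filter fun g => g ∈ P ∧ orderOf g = p

omit hp in
theorem Hyp.closure_le {S : Finset G} (hS : S ∈ (omega p P).powerset) : Subgroup.closure (S : Set G) ≤ P :=
  (Subgroup.closure_le _).mpr fun g hg => (Finset.mem_filter.mp (Finset.mem_powerset.mp hS hg)).2.1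

theorem Hyp.closure_ne_bot {S : Finset G} (hS : S ∈ (omega p P).powerset.erase ∅) :
    Subgroup.closure (S : Set G) ≠ ⊥ := by
  obtain ⟨g, hg⟩ := Finset.nonempty_iff_ne_empty.mpr (Finset.mem_erase.mp hS).1
  intro h
  have h1 : g = 1 := Subgroup.mem_bot.mp (h ▸ Subgroup.subset_closure hg)
  have h2 := (Finset.mem_filter.mp (Finset.mem_powerset.mp (Finset.mem_erase.mp hS).2 hg)).2.2
  rw [h1, orderOf_one] at h2
  exact hp.out.ne_one h2.symm

/-- One factor of the correction. -/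
def Hyp.cS (S : Finset G) (y z : P) : ℂ :=
  coef (D.bR (Subgroup.closure (S : Set G) ⊔ Subgroup.zpowers (y : G))) (D.theta (Subgroup.closure (S : Set G)))
    (z : G)

/-- The correction. -/
def Hyp.corr (y : P) : ℂ :=
  ∏ S ∈ (omega p P).powerset.erase ∅, if Even S.card then D.cS S y y else D.cS S y y⁻¹

/-- The correction with the scalars. -/
def Hyp.Gprod (y : P) : ℂ :=
  ∏ S ∈ (omega p P).powerset.erase ∅,
    if Even S.card then D.Gf (Subgroup.closure (S : Set G)) y else (D.Gf (Subgroup.closure (S : Set G)) y)⁻¹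

theorem Hyp.Gf_isLU {S : Finset G} (hS : S ∈ (omega p P).powerset.erase ∅) (y : P) :
    IsLU M (D.Gf (Subgroup.closure (S : Set G)) y) :=
  (D.nu_sup_isLU (D.closure_le (Finset.mem_erase.mp hS).2) (D.closure_ne_bot hS)
    (D.nu_isLU (D.closure_le (Finset.mem_erase.mp hS).2) (D.closure_ne_bot hS)) y).1

theorem Hyp.Gprod_mem : D.Gprod ∈ pairingRing M P := by
  have h : D.Gprod = ∏ S ∈ (omega p P).powerset.erase ∅,
      (if Even S.card then D.Gf (Subgroup.closure (S : Set G))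
        else fun y => (D.Gf (Subgroup.closure (S : Set G)) y)⁻¹) := by
    funext y
    rw [Finset.prod_apply, Hyp.Gprod]
    exact Finset.prod_congr rfl fun S _ => by split_ifs <;> rfl
  rw [h]
  refine Subring.prod_mem _ fun S hS => ?_
  have hm := char_mem_pairingRing (M := M) (D.isCharacter_Gf (D.closure_le (Finset.mem_erase.mp hS).2))
  split_ifs
  · exact hm
  · exact inv_mem_pairingRing hm (D.Gf_isLU hS)

theorem Hyp.Gprod_isLU (y : P) : IsLU M (D.Gprod y) := by
  refine Finset.prod_induction _ (IsLU M) (fun a b => IsLU.mul)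
    ⟨Subring.one_mem _, by rw [show (⟨1, _⟩ : locRing M) = 1 from rfl, map_one]; exact one_ne_zero⟩ fun S hS => ?_
  split_ifs
  · exact D.Gf_isLU hS y
  · exact (D.Gf_isLU hS y).inv

theorem Hyp.cS_unit {S : Finset G} (hS : S ∈ (omega p P).powerset.erase ∅) (y : P) :
    IsIntegral ℤ (D.cS S y y) ∧ IsIntegral ℤ (D.cS S y y⁻¹) ∧ conj (D.cS S y y) = D.cS S y y⁻¹ ∧
      D.cS S y y * conj (D.cS S y y) = 1 := by
  have hQ := D.closure_le (Finset.mem_erase.mp hS).2
  have hy : (y : G) ∈ Subgroup.closure (S : Set G) ⊔ Subgroup.zpowers (y : G) :=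
    le_sup_right (a := Subgroup.closure (S : Set G)) (Subgroup.mem_zpowers _)
  refine ⟨D.isIntegral_theta_coef hQ y y hy, D.isIntegral_theta_coef hQ y y⁻¹ (inv_mem hy), ?_,
    (D.Gf_eval hQ (D.closure_ne_bot hS) y).2⟩
  rw [Hyp.cS, Hyp.cS, coef_conj (D.isCharacter_theta le_sup_left) hy
    (D.le_cen (sup_le hQ (Subgroup.zpowers_le.mpr y.2)) y.2), Subgroup.coe_inv]

theorem Hyp.corr_unit (y : P) : D.corr y * conj (D.corr y) = 1 := by
  rw [Hyp.corr, map_prod, ← Finset.prod_mul_distrib]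
  refine Finset.prod_eq_one fun S hS => ?_
  obtain ⟨-, -, hc, hu⟩ := D.cS_unit hS y
  split_ifs
  · exact hu
  · rw [← hc, Complex.conj_conj, mul_comm]; exact hu

theorem Hyp.corr_integral (y : P) : IsIntegral ℤ (D.corr y) := by
  refine IsIntegral.prod _ fun S hS => ?_
  obtain ⟨h1, h2, -, -⟩ := D.cS_unit hS y
  split_ifs
  · exact h1
  · exact h2

theorem Hyp.corr_galois {σ : ℂ ≃+* ℂ} {k : ℕ} (hk : k.Coprime (Nat.card P))
    (hσ : ∀ z : ℂ, z ^ Nat.card P = 1 → σ z = z ^ k) (y : P) : σ (D.corr y) = D.corr (y ^ k) := by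
  rw [Hyp.corr, Hyp.corr, map_prod]
  refine Finset.prod_congr rfl fun S hS => ?_
  have hQ := D.closure_le (Finset.mem_erase.mp hS).2
  have hy : (y : G) ∈ Subgroup.closure (S : Set G) ⊔ Subgroup.zpowers (y : G) :=
    le_sup_right (a := Subgroup.closure (S : Set G)) (Subgroup.mem_zpowers _)
  have hR := sup_le hQ (Subgroup.zpowers_le.mpr y.2)
  have hz := D.zpowers_pow_coprime y.2 hk
  simp only [Hyp.cS, SubmonoidClass.coe_pow, Subgroup.coe_inv]
  simp only [D.coef_bR_congr (congrArg (Subgroup.closure (S : Set G) ⊔ ·) hz)]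
  split_ifs
  · exact coef_galois (D.isCharacter_theta le_sup_left) hy (D.le_cen hR y.2) hσ (D.pow_card y.2)
  · rw [coef_galois (D.isCharacter_theta le_sup_left) (inv_mem hy) (D.le_cen hR (inv_mem y.2)) hσ
      (D.pow_card (inv_mem y.2)), inv_pow]

theorem Hyp.corr_inv (y : P) : conj (D.corr y) = D.corr y⁻¹ := by
  rw [Hyp.corr, Hyp.corr, map_prod]
  refine Finset.prod_congr rfl fun S hS => ?_
  obtain ⟨-, -, hc, -⟩ := D.cS_unit hS y
  simp only [Hyp.cS, Subgroup.coe_inv, inv_inv] at hc ⊢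
  simp only [D.coef_bR_congr (congrArg (Subgroup.closure (S : Set G) ⊔ ·)
    (Subgroup.zpowers_inv : Subgroup.zpowers (y : G)⁻¹ = _))]
  split_ifs
  · exact hc
  · rw [← hc, Complex.conj_conj]

/-- **The telescope.** -/
theorem Hyp.Gprod_eval {y : P} (hy : y ≠ 1) :
    D.Gprod y = D.corr y * (D.nu (Subgroup.zpowers (y : G)))⁻¹ := by
  obtain ⟨k, hk⟩ := exists_pow_of_mem D.isPGroup y.2
  have hk0 : k ≠ 0 := fun h => hy (Subtype.ext (orderOf_eq_one_iff.mp (by rw [hk, h, pow_zero])))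
  obtain ⟨z, hzd⟩ : ∃ z : G, z = (y : G) ^ p ^ (k - 1) := ⟨_, rfl⟩
  have hzy : z ∈ Subgroup.zpowers (y : G) := hzd ▸ pow_mem (Subgroup.mem_zpowers _) _
  have hzo : orderOf z = p := by
    rw [hzd, orderOf_pow_of_dvd (pow_ne_zero _ hp.out.ne_zero) (hk ▸ pow_dvd_pow p (Nat.sub_le k 1)), hk,
      Nat.pow_div (Nat.sub_le k 1) hp.out.pos, show k - (k - 1) = 1 by omega, pow_one]
  have hzΩ : z ∈ (omega p P) := Finset.mem_filter.mpr ⟨Finset.mem_univ _, (Subgroup.zpowers_le.mpr y.2) hzy, hzo⟩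
  have hyne : Subgroup.zpowers (y : G) ≠ ⊥ := Subgroup.zpowers_ne_bot.mpr fun h => hy (Subtype.ext h)
  have halt := prod_alt_eq_one (omega p P) hzΩ
    (fun S => D.nu (Subgroup.closure (S : Set G) ⊔ Subgroup.zpowers (y : G)))
    (fun S hS => (D.nu_isLU (sup_le (D.closure_le (Finset.mem_powerset.mpr hS)) (Subgroup.zpowers_le.mpr y.2))
      fun h => hyne (le_bot_iff.mp (h ▸ le_sup_right))).ne_zero)
    (fun S _ => by
      beta_reduce
      congr 1
      rw [Finset.coe_insert, Set.insert_eq, Subgroup.closure_union, ← Subgroup.zpowers_eq_closure,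
        sup_comm (Subgroup.zpowers z), sup_assoc, sup_eq_right.mpr (Subgroup.zpowers_le.mpr hzy)])
  rw [← Finset.mul_prod_erase _ _ (Finset.empty_mem_powerset (omega p P)), if_pos (by simp), Finset.coe_empty,
    Subgroup.closure_empty, bot_sup_eq] at halt
  rw [eq_inv_of_mul_eq_one_right halt |>.symm, Hyp.corr, ← Finset.prod_mul_distrib, Hyp.Gprod]
  refine Finset.prod_congr rfl fun S hS => ?_
  have hG := (D.Gf_eval (D.closure_le (Finset.mem_erase.mp hS).2) (D.closure_ne_bot hS) y).1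
  obtain ⟨-, -, hc, hu⟩ := D.cS_unit hS y
  split_ifs
  · exact hG
  · rw [hG, mul_inv, show (coef (D.bR (Subgroup.closure (S : Set G) ⊔ Subgroup.zpowers (y : G)))
      (D.theta (Subgroup.closure (S : Set G))) (y : G))⁻¹ = conj (D.cS S y y) from
        (eq_inv_of_mul_eq_one_right hu).symm, hc]

/-- The function with an integral expansion, before the twist. -/
theorem Hyp.F_mul_Gprod {y : P} (hy : y ≠ 1) (χ : IrrCharacter G) :
    D.F χ y * D.Gprod y = D.f₀ χ y * D.corr y := by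
  rw [D.F_eval hy, D.Gprod_eval hy, Hyp.f₀]
  have := (D.nu_isLU (Subgroup.zpowers_le.mpr y.2)
    (Subgroup.zpowers_ne_bot.mpr fun h => hy (Subtype.ext h))).ne_zero
  field_simp

/-- The section coefficients are invariant under the stabiliser of the pair. -/
theorem Hyp.f₀_conj {t : G} (ht : t ∈ stab M P c) (χ : IrrCharacter G) {y y' : P}
    (h : (y' : G) = t * (y : G) * t⁻¹) : D.f₀ χ y' = D.f₀ χ y := by
  have hiff : ∀ g, g ∈ Cen (Subgroup.zpowers (y' : G)) ↔ t⁻¹ * g * t ∈ Cen (Subgroup.zpowers (y : G)) := fun g => by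
    rw [h, ← map_conj_zpowers]
    exact mem_centralizer_map_conj
  let et := conjEquiv t (Cen (Subgroup.zpowers (y : G))) (Cen (Subgroup.zpowers (y' : G))) hiff
  have hy : Subgroup.zpowers (y : G) ≤ P := Subgroup.zpowers_le.mpr y.2
  have hy' : Subgroup.zpowers (y' : G) ≤ P := Subgroup.zpowers_le.mpr y'.2
  have hb : tblock et (D.bR (Subgroup.zpowers (y : G))) = D.bR (Subgroup.zpowers (y' : G)) := by
    refine gidem_inj (M := M) (isPBlock_tblock et (D.bR_block hy)) (D.bR_block hy') ?_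
    show gidem M _ (tblock (conjEquiv t _ _ hiff) _) = _
    rw [gidem_tblock]
    have h1 : cjPair t (⟨_, D.bR (Subgroup.zpowers (y : G))⟩ : BrauerPairIdx G) =
        ⟨_, D.bR (Subgroup.zpowers (y' : G))⟩ := by
      refine pair_eq_of_le D.hM D.hmax.1.1 ?_ (D.bR_le hy') ?_
      · rw [← cjPair_eq_self_of_mem_stab D.hmax.1.1 ht]
        exact subpair_cjPair D.hM t (D.bR_le hy)
      · rw [cjPair_fst, map_conj_zpowers]
        exact congrArg Subgroup.zpowers h.symm
    have h2 := congrArg (pid M) h1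
    rwa [pid_cjPair] at h2
  let E : IrrCharacter (Cen (Subgroup.zpowers (y : G))) ≃ IrrCharacter (Cen (Subgroup.zpowers (y' : G))) :=
    { toFun := tirr et
      invFun := tirr et.symm
      left_inv := fun η => Subtype.ext (funext fun z => congrArg (η : _ → ℂ) (et.symm_apply_apply z))
      right_inv := fun η => Subtype.ext (funext fun z => congrArg (η : _ → ℂ) (et.apply_symm_apply z)) }
  unfold Hyp.f₀ coef
  refine (Fintype.sum_equiv E _ _ fun ψ => ?_).symm
  have hmem : E ψ ∈ D.bR (Subgroup.zpowers (y' : G)) ↔ ψ ∈ D.bR (Subgroup.zpowers (y : G)) := by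
    rw [← hb, mem_tblock]
    exact iff_of_eq (congrArg (· ∈ D.bR (Subgroup.zpowers (y : G))) (E.symm_apply_apply ψ))
  have hval : ∀ k, (E ψ : Cen (Subgroup.zpowers (y' : G)) → ℂ) (et k) = (ψ : _ → ℂ) k := fun k =>
    congrArg (ψ : _ → ℂ) (et.symm_apply_apply k)
  refine if_congr hmem.symm ?_ rfl
  rw [dif_pos (D.le_cen hy y.2), dif_pos (D.le_cen hy' y'.2)]
  congr 1
  · rw [classInner_def, classInner_def, Nat.card_congr et.toEquiv]
    congr 1
    refine Fintype.sum_equiv et.toEquiv _ _ fun k => ?_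
    rw [MulEquiv.toEquiv_eq_coe, EquivLike.coe_coe, hval,
      show ((et k : Cen (Subgroup.zpowers (y' : G))) : G) = t * (k : G) * t⁻¹ from rfl,
      isClassFunction_of_isIrr χ.2]
  · rw [centScal, centScal, show (⟨(y' : G), D.le_cen hy' y'.2⟩ : Cen (Subgroup.zpowers (y' : G))) =
        et ⟨(y : G), D.le_cen hy y.2⟩ from Subtype.ext h, hval, ← map_one et, hval]

omit [M.IsMaximal] hp D in
theorem exists_inv_mod {e q : ℕ} (h : e.Coprime q) (hq : q ≠ 0) : ∃ j : ℕ, e * j ≡ 1 [MOD q] :=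
  ⟨e ^ (Nat.totient q - 1), by
    rw [← pow_succ', Nat.sub_add_cancel (Nat.totient_pos.mpr (Nat.pos_of_ne_zero hq))]
    exact Nat.ModEq.pow_totient h⟩

/-- **The glued functions.** -/
theorem Hyp.exists_glued (A : Subgroup (MulAut P))
    (hAT : ∀ a ∈ A, ∃ t ∈ stab M P c, ∀ y : P, ((a y : P) : G) = t * (y : G) * t⁻¹)
    (hA : (Nat.card A).Coprime p) :
    ∃ u : P → ℂ, (∀ y : P, y ≠ 1 → u y * conj (u y) = 1) ∧
      (∀ χ, ∀ a ∈ A, ∀ y : P, y ≠ 1 → D.f₀ χ (a y) * u (a y) = D.f₀ χ y * u y) ∧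
      ∀ χ, ∃ m : IrrCharacter P → ℤ,
        (∀ μ : IrrCharacter P,
          (m μ : ℂ) = (Nat.card P : ℂ)⁻¹ * ∑ y, D.f₀ χ y * u y * (conj ((μ : P → ℂ) y) - 1)) ∧
        ∀ y : P, y ≠ 1 → D.f₀ χ y * u y = ∑ μ : IrrCharacter P, (m μ : ℂ) * (μ : P → ℂ) y := by
  obtain ⟨d, hd⟩ := D.exists_card
  have hd0 : d ≠ 0 := fun h => D.hne (Subgroup.card_eq_one.mp (by rw [hd, h, pow_zero]))
  obtain ⟨χ₀, hχ₀, hh₀⟩ := exists_height_zero D.hM D.hmax.1.2.1
  obtain ⟨H₀, hH₀⟩ : ∃ H₀ : P → ℂ, H₀ = D.F χ₀ * D.Gprod := ⟨_, rfl⟩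
  have hH₀m : H₀ ∈ pairingRing M P :=
    hH₀ ▸ Subring.mul_mem _ (char_mem_pairingRing (D.isCharacter_F χ₀)) D.Gprod_mem
  have hH₀u : ∀ y, IsLU M (H₀ y) := fun y => hH₀ ▸ (D.F_isLU hχ₀ hh₀ y).mul (D.Gprod_isLU y)
  obtain ⟨L, hL⟩ : ∃ L : A → P → ℂ, L = fun (a : A) y => D.corr ((a : MulAut P) y) * conj (D.corr y) := ⟨_, rfl⟩
  have hne1 : ∀ (a : A) {y : P}, y ≠ 1 → (a : MulAut P) y ≠ 1 := fun a y hy h =>
    hy ((map_eq_one_iff _ (a : MulAut P).injective).mp h)
  have hLshape : ∀ a : A, ∃ (ε : ℤ) (μ : IrrCharacter P), (ε = 1 ∨ ε = -1) ∧ (ε = -1 → p = 2) ∧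
      ∀ y, y ≠ 1 → L a y = ε * (μ : P → ℂ) y := by
    intro a
    obtain ⟨t, ht, hat⟩ := hAT a a.2
    obtain ⟨N, hN⟩ : ∃ N : P → ℂ, N = (fun y => H₀ ((a : MulAut P) y)) * fun y => (H₀ y)⁻¹ := ⟨_, rfl⟩
    have hNm : N ∈ pairingRing M P :=
      hN ▸ Subring.mul_mem _ (comp_mem_pairingRing hH₀m (a : MulAut P)) (inv_mem_pairingRing hH₀m hH₀u)
    have hNL : ∀ y, y ≠ 1 → L a y = N y := fun y hy => by
      rw [hL, hN, Pi.mul_apply, hH₀]
      simp only [Pi.mul_apply]
      rw [D.F_mul_Gprod (hne1 a hy), D.F_mul_Gprod hy, D.f₀_conj ht χ₀ (hat y), mul_inv,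
        eq_inv_of_mul_eq_one_right (D.corr_unit y)]
      field_simp [(D.f₀_isLU hχ₀ hh₀ hy).ne_zero]
    obtain ⟨m, -, hm⟩ := exists_coeff D.comm D.hM hd hNm hNL
      (fun y _ => by
        rw [hL]; exact (D.corr_integral _).mul (map_isIntegral_int (starRingEnd ℂ) (D.corr_integral y)))
      (fun σ k hk hσ y _ => by
        rw [hL]; beta_reduce
        rw [map_mul, D.corr_inv, D.corr_inv, D.corr_galois hk hσ, D.corr_galois hk hσ, map_pow, inv_pow])
    obtain ⟨ε, μ, hε, hμ⟩ := unit_shape D.comm hm fun y _ => by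
      rw [hL]; beta_reduce
      rw [map_mul, Complex.conj_conj]
      linear_combination (conj (D.corr y) * D.corr y) * D.corr_unit ((a : MulAut P) y) + D.corr_unit y
    refine ⟨ε, μ, hε, fun hε1 => ?_, hμ⟩
    -- the residue
    obtain ⟨y, hy⟩ : ∃ y : P, y ≠ 1 := by
      by_contra! h
      exact D.hne ((Subgroup.eq_bot_iff_forall P).mpr fun g hg => congrArg Subtype.val (h ⟨g, hg⟩))
    obtain ⟨m1, m0, e1⟩ := res_const D.comm D.hM hd hH₀m ((a : MulAut P) y)
    obtain ⟨m2, m0', e2⟩ := res_const D.comm D.hM hd hH₀m y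
    have hmu : (μ : P → ℂ) y ∈ locRing M := algInt_le_locRing M (char_isIntegral (isCharacter_of_isIrr μ.2) y)
    have h3 : (⟨_, m1⟩ : locRing M) = -(⟨_, m2⟩ * ⟨_, hmu⟩) := Subtype.ext (by
      have h := (hNL y hy).symm.trans (hμ y hy)
      rw [hN, Pi.mul_apply, hε1, mul_inv_eq_iff_eq_mul₀ (hH₀u y).ne_zero] at h
      simp only [NegMemClass.coe_neg, Subring.coe_mul]
      rw [h]; push_cast; ring)
    have h4 := congrArg (res M) h3
    rw [map_neg, map_mul, e1, e2, res_pPow_rootOfUnity M D.hM (k := d) (z := ⟨_, hmu⟩)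
      (Subtype.ext (by rw [SubmonoidClass.coe_pow, ← hd]; exact irr_pow_card D.comm μ y)), mul_one,
      eq_neg_iff_add_eq_zero, ← two_mul] at h4
    have h5 : (2 : Res M) = 0 := (mul_eq_zero.mp h4).resolve_right (by
      have h := (hH₀u 1).2
      exact h)
    have h6 : p ∣ 2 := by
      have h := (res_natCast_eq_zero_iff M D.hM 2).mp (by rw [map_natCast]; exact_mod_cast h5)
      exact h
    exact (Nat.prime_dvd_prime_iff_eq hp.out Nat.prime_two).mp h6
  choose ε μ hε hε2 hμ using hLshape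
  obtain ⟨j, hj⟩ := exists_inv_mod (show (Nat.card A).Coprime (Nat.card P) by rw [hd]; exact hA.pow_right d) D.card_ne
  obtain ⟨v, hv⟩ : ∃ v : P → ℂ, v = fun y => (∏ a : A, (μ a : P → ℂ) y) ^ j := ⟨_, rfl⟩
  have hroot : ∀ (ν : IrrCharacter P) y, ((ν : P → ℂ) y) ^ (Nat.card A * j) = (ν : P → ℂ) y := fun ν y => by
    conv_rhs => rw [← pow_one ((ν : P → ℂ) y)]
    rw [pow_eq_pow_mod _ (irr_pow_card D.comm ν y), pow_eq_pow_mod 1 (irr_pow_card D.comm ν y), hj]
  have hsign : ∀ a : A, ((ε a : ℂ)) ^ (Nat.card A * j) = ε a := fun a => by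
    rcases hε a with h | h
    · rw [h, Int.cast_one, one_pow]
    · have h2 := hε2 a h
      have hodd : Odd (Nat.card A * j) := by
        rw [Nat.odd_iff]
        have hdvd : 2 ∣ Nat.card P := by rw [hd, h2]; exact dvd_pow_self 2 hd0
        exact Nat.ModEq.of_dvd hdvd hj
      rw [h, Int.cast_neg, Int.cast_one, hodd.neg_one_pow]
  have hv_inv : ∀ (b : A) (y : P), y ≠ 1 → v y = v ((b : MulAut P) y) * L b y := by
    intro b y hy
    have hmul : ∀ a : A, L (a * b) y = L a ((b : MulAut P) y) * L b y := fun a => by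
      rw [hL]; beta_reduce
      rw [Subgroup.coe_mul, MulAut.mul_apply]
      linear_combination (-(D.corr ((a : MulAut P) ((b : MulAut P) y)) * conj (D.corr y))) *
        D.corr_unit ((b : MulAut P) y)
    have h1 : ∏ a : A, L a y = (∏ a : A, L a ((b : MulAut P) y)) * L b y ^ Nat.card A := by
      rw [← Equiv.prod_comp (Equiv.mulRight b) fun a => L a y, Nat.card_eq_fintype_card, ← Finset.card_univ,
        ← Finset.prod_const, ← Finset.prod_mul_distrib]
      exact Finset.prod_congr rfl fun a _ => hmul a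
    have h2 := congrArg (· ^ j) h1
    beta_reduce at h2
    rw [Finset.prod_congr rfl fun a _ => hμ a y hy,
      Finset.prod_congr (s₁ := Finset.univ) rfl fun a _ => hμ a _ (hne1 b hy),
      Finset.prod_mul_distrib, Finset.prod_mul_distrib, mul_pow, mul_pow, mul_pow, ← pow_mul, hμ b y hy,
      mul_pow, hsign, hroot, mul_assoc] at h2
    have h3 : (∏ a : A, (ε a : ℂ)) ^ j ≠ 0 := pow_ne_zero _ (Finset.prod_ne_zero_iff.mpr fun a _ => by
      rcases hε a with h | h <;> rw [h] <;> norm_num)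
    rw [hv, hμ b y hy]
    exact mul_left_cancel₀ h3 h2
  refine ⟨fun y => D.corr y * v y, fun y hy => ?_, fun χ a ha y hy => ?_, fun χ => ?_⟩
  · have hvu : v y * conj (v y) = 1 := by
      rw [hv]; beta_reduce
      rw [map_pow, ← mul_pow, map_prod, ← Finset.prod_mul_distrib, Finset.prod_eq_one fun a _ => ?_, one_pow]
      rw [← char_inv (isCharacter_of_isIrr (μ a).2), ← CyclicOrbits.irr_mul D.comm, mul_inv_cancel,
        irr_one_eq_one_of_comm D.comm (μ a).2]
    rw [map_mul]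
    linear_combination (v y * conj (v y)) * D.corr_unit y + hvu
  · obtain ⟨t, ht, hat⟩ := hAT a ha
    beta_reduce
    rw [D.f₀_conj ht χ (hat y)]
    have h := hv_inv ⟨a, ha⟩ y hy
    rw [hL] at h
    beta_reduce at h
    rw [h]
    linear_combination (-(D.f₀ χ y * D.corr (a y) * v (a y))) * D.corr_unit y
  · have hvm : v ∈ pairingRing M P := by
      rw [show v = (∏ a : A, (μ a : P → ℂ)) ^ j by funext y; simp [hv, Pi.pow_apply, Finset.prod_apply]]
      exact Subring.pow_mem _ (Subring.prod_mem _ fun a _ => char_mem_pairingRing (isCharacter_of_isIrr (μ a).2)) j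
    obtain ⟨m, hm0, hm⟩ := exists_coeff D.comm D.hM hd
      (g := fun y => D.f₀ χ y * (D.corr y * v y)) (H := D.F χ * D.Gprod * v)
      (Subring.mul_mem _ (Subring.mul_mem _ (char_mem_pairingRing (D.isCharacter_F χ)) D.Gprod_mem) hvm)
      (fun y hy => by rw [Pi.mul_apply, Pi.mul_apply, D.F_mul_Gprod hy]; ring)
      (fun y _ => (D.isIntegral_f₀ χ y).mul ((D.corr_integral y).mul (by
        rw [hv]; exact (IsIntegral.prod _ fun a _ => char_isIntegral (isCharacter_of_isIrr (μ a).2) y).pow j)))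
      (fun σ k hk hσ y _ => by
        rw [map_mul, map_mul, D.corr_galois hk hσ]
        congr 1
        · rw [Hyp.f₀, Hyp.f₀, SubmonoidClass.coe_pow, D.zpowers_pow_coprime y.2 hk]
          exact coef_galois (isCharacter_res _ (isCharacter_of_isIrr χ.2)) (Subgroup.mem_zpowers _)
            (D.le_cen (Subgroup.zpowers_le.mpr y.2) y.2) hσ (D.pow_card y.2)
        · congr 1
          rw [hv]; beta_reduce
          rw [map_pow, map_prod]
          congr 1
          exact Finset.prod_congr rfl fun a _ => by rw [hσ _ (irr_pow_card D.comm _ y), ← irr_pow D.comm])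
    exact ⟨m, hm0, hm⟩

end CfsgLib.Blocks.FreeInertia
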