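import Cfsg.Agent.Lib.Blocks.FreeInertia.Coef
import Cfsg.Agent.Lib.Blocks.FreeInertia.Fourier
import Cfsg.Agent.Lib.NilBlock.LocalElt

/-!
# The local functions of a block with abelian defect group and free inertial action

`Hyp`: the hypotheses. For `R ≤ P` the blocks `bR R`, the base characters `eta R`, the scalars `nu R` and

* `F_eval`: `χ (y i) = coef χ y · nu ⟨y⟩`, a character of `P` in `y`;
* `Gf_eval`: inside `C(Q)`, the base character at `y i_Q` is a scalar of modulus one times `nu (Q ⟨y⟩)`.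
-/

set_option autoImplicit false
set_option maxHeartbeats 1000000

noncomputable section

namespace CfsgLib.Blocks.FreeInertia

open Cfsg CfsgLib.Blocks CfsgLib.BlockArith CfsgLib.Char CfsgLib.BrauerPairs CfsgLib.NilBlock
open scoped ComplexConjugate Classical

universe u

variable {G : Type u} [Group G] [Fintype G] {p : ℕ} [hp : Fact p.Prime] {M : Ideal AlgInt} [M.IsMaximal]
  {B : Set (IrrCharacter G)} {P : Subgroup G} {c : Set (IrrCharacter (Cen P))}

/-- A block with abelian defect group `P` on which the inertial quotient acts freely. -/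
structure Hyp (p : ℕ) (M : Ideal AlgInt) [M.IsMaximal] (B : Set (IrrCharacter G)) (P : Subgroup G)
    (c : Set (IrrCharacter (Cen P))) : Prop where
  hM : IsPModular p M
  hmax : IsMaximalBrauerPair p M B P c
  hab : ∀ x ∈ P, ∀ y ∈ P, x * y = y * x
  hne : P ≠ ⊥
  hfree : ∀ t ∈ stab M P c, ∀ x ∈ P, x ≠ 1 → t * x * t⁻¹ = x → t ∈ Cen P

variable (D : Hyp p M B P c)
include D

omit hp in
theorem Hyp.le_cen {R : Subgroup G} (hR : R ≤ P) : P ≤ Cen R := fun v hv =>
  Subgroup.mem_centralizer_iff.mpr fun q hq => D.hab q (hR hq) v hv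

omit hp in
theorem Hyp.comm (x y : P) : x * y = y * x := Subtype.ext (D.hab _ x.2 _ y.2)

omit hp in
theorem Hyp.isPGroup : IsPGroup p P := D.hmax.1.1.1

theorem Hyp.exists_below {R : Subgroup G} (hR : R ≤ P) :
    ∃ f, SubpairLE p M R f P c :=
  (existsUnique_subpair D.hM hR D.hmax.1.1).exists

/-- The block of `C(R)` below the maximal pair. -/
def Hyp.bR (R : Subgroup G) : Set (IrrCharacter (Cen R)) :=
  if h : R ≤ P then (D.exists_below h).choose else ∅

theorem Hyp.bR_le {R : Subgroup G} (hR : R ≤ P) : SubpairLE p M R (D.bR R) P c := by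
  rw [Hyp.bR, dif_pos hR]; exact (D.exists_below hR).choose_spec

theorem Hyp.bR_block {R : Subgroup G} (hR : R ≤ P) : IsPBlock M (D.bR R) :=
  (isBrauerPair_left (a := ⟨R, D.bR R⟩) (D.bR_le hR) D.hmax.1.1).2

theorem Hyp.bR_inertOne {R : Subgroup G} (hR : R ≤ P) (hne : R ≠ ⊥) : InertOne p M (D.bR R) := by
  obtain ⟨x, hx, hx1⟩ : ∃ x ∈ R, x ≠ 1 := by
    by_contra! h
    exact hne ((Subgroup.eq_bot_iff_forall R).mpr h)
  refine stab_inertOne D.hM D.hmax D.hab (D.bR_le hR) fun t ht htC => D.hfree t ht x (hR hx) hx1 ?_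
  rw [← Subgroup.mem_centralizer_iff.mp htC x hx, mul_inv_cancel_right]

theorem Hyp.bR_defect {R : Subgroup G} (hR : R ≤ P) :
    blockDefect p (D.bR R) = blockDefect p B := by
  have h2 := card_defectGroup D.hM (D.bR_block hR) (pairs_defect D.hM D.hmax D.hab (D.bR_le hR))
  rw [card_subgroupOf' (D.le_cen hR),
    card_defectGroup D.hM D.hmax.1.2.1 (isDefectGroup_of_maximal D.hM D.hmax)] at h2
  exact (Nat.pow_right_injective hp.out.two_le (show p ^ _ = p ^ _ from h2)).symm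

/-- A good base character. -/
def Hyp.Good (R : Subgroup G) (η : IrrCharacter (Cen R)) : Prop :=
  η ∈ D.bR R ∧ blockHeight p (D.bR R) (η : Cen R → ℂ) = 0 ∧
    (∀ ψ ∈ D.bR R, ∀ s : Cen R, ¬ p ∣ orderOf s → (ψ : Cen R → ℂ) s = (η : Cen R → ℂ) s) ∧
    ((p ^ blockDefect p (D.bR R) : ℕ) : ℂ) / (Nat.card (Cen R) : ℂ) *
      regSum p (η : Cen R → ℂ) (η : Cen R → ℂ) = 1

/-- The base character of `bR R`. -/
def Hyp.eta (R : Subgroup G) : IrrCharacter (Cen R) :=
  if h : ∃ η, D.Good R η then h.choose else irrOne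

theorem Hyp.eta_good {R : Subgroup G} (hR : R ≤ P) (hne : R ≠ ⊥) : D.Good R (D.eta R) := by
  obtain ⟨η, h1, h2, h3, h4⟩ := exists_reg_base D.hM (D.bR_block hR) (D.bR_inertOne hR hne)
  have h : ∃ η, D.Good R η := ⟨η, h1, h2, h3, h4⟩
  rw [Hyp.eta, dif_pos h]
  exact h.choose_spec

theorem Hyp.exists_idem : ∃ i : LA M G, i * i = i ∧ (∀ v ∈ P, Commute i (MonoidAlgebra.single v 1)) ∧
    (∀ R : Subgroup G, R ≤ P →
      br R (redLA M G i) * pid M ⟨R, D.bR R⟩ = br R (redLA M G i)) ∧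
    ∀ χ ∈ B, blockHeight p B (χ : G → ℂ) = 0 →
      ∑ g : G, (br P (redLA M G i)).coeff g * res M (cvalR M (isCharacter_of_isIrr χ.2) g) ≠ 0 := by
  have hl : blockRank p c = 1 := by
    have h := (inertOne_counts D.hM _ (Cen P) (D.bR P) rfl (D.bR_block le_rfl) (D.bR_inertOne le_rfl D.hne)).1
    rwa [subpair_eq D.hM D.hmax.1.1 (D.bR_le le_rfl) .refl] at h
  obtain ⟨l, hll, hsupp, hle, hne⟩ := exists_local_elt D.hM D.hmax.1 hl
  obtain ⟨i, hi, hcomm, hbrP, hbr⟩ := exists_local_idem D.hM D.hmax.1.1 hll hsupp hle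
  exact ⟨i, hi, hcomm, fun R hR => hbr R _ (D.bR_le hR), fun χ hχ h0 => hbrP.symm ▸ hne χ hχ h0⟩

/-- The idempotent. -/
def Hyp.idm : LA M G := D.exists_idem.choose

theorem Hyp.idm_sq : D.idm * D.idm = D.idm := D.exists_idem.choose_spec.1

theorem Hyp.idm_comm {v : G} (hv : v ∈ P) : Commute D.idm (MonoidAlgebra.single v 1) :=
  D.exists_idem.choose_spec.2.1 v hv

theorem Hyp.idm_br {R : Subgroup G} (hR : R ≤ P) :
    br R (redLA M G D.idm) * pid M ⟨R, D.bR R⟩ = br R (redLA M G D.idm) :=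
  D.exists_idem.choose_spec.2.2.1 R hR

theorem Hyp.idm_nonvanish {χ : IrrCharacter G} (hχ : χ ∈ B) (h0 : blockHeight p B (χ : G → ℂ) = 0) :
    ∑ g : G, (br P (redLA M G D.idm)).coeff g * res M (cvalR M (isCharacter_of_isIrr χ.2) g) ≠ 0 :=
  D.exists_idem.choose_spec.2.2.2 χ hχ h0

theorem Hyp.exists_jR (R : Subgroup G) : ∃ j : LA M (Cen R), R ≤ P →
    j * j = j ∧ emb (Cen R) (redLA M _ j) = br R (redLA M G D.idm) ∧
      ∀ v : Cen R, (v : G) ∈ P → Commute j (MonoidAlgebra.single v 1) := by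
  by_cases hR : R ≤ P
  swap
  · exact ⟨0, fun h => absurd h hR⟩
  have hfix : IsFixed R (redLA M G D.idm) := isFixed_iff.mpr fun v hv g => by
    rw [coeff_redLA, coeff_redLA, (commute_single_iff D.idm v).mp (D.idm_comm (hR hv)) g]
  obtain ⟨j, hj1, hj2, hj3⟩ := exists_lift_idem D.hM (C := Cen R) (x := br R (redLA M G D.idm))
    (fun g hg => by rw [coeff_br, if_neg hg])
    (by rw [← br_mul D.hM (D.isPGroup.to_le hR) hfix hfix, ← map_mul, D.idm_sq])
  refine ⟨j, fun _ => ⟨hj1, hj2, fun v hv => hj3 v fun g => ?_⟩⟩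
  have hvC : (v : G) ∈ Cen R := v.2
  have hiff : (v : G) * g * (v : G)⁻¹ ∈ Cen R ↔ g ∈ Cen R := by
    refine ⟨fun h => ?_, fun h => mul_mem (mul_mem hvC h) (inv_mem hvC)⟩
    have := mul_mem (mul_mem (inv_mem hvC) h) hvC
    simpa [mul_assoc] using this
  rw [coeff_br, coeff_br, if_congr hiff rfl rfl]
  split_ifs
  · rw [coeff_redLA, coeff_redLA, (commute_single_iff D.idm (v : G)).mp (D.idm_comm hv) g]
  · rfl

/-- The lift of the Brauer image at `R`. -/
def Hyp.jR (R : Subgroup G) : LA M (Cen R) := (D.exists_jR R).choose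

theorem Hyp.jR_spec {R : Subgroup G} (hR : R ≤ P) :
    D.jR R * D.jR R = D.jR R ∧ emb (Cen R) (redLA M _ (D.jR R)) = br R (redLA M G D.idm) ∧
      ∀ v : Cen R, (v : G) ∈ P → Commute (D.jR R) (MonoidAlgebra.single v 1) :=
  (D.exists_jR R).choose_spec hR

theorem Hyp.redLA_jR_coeff {R : Subgroup G} (hR : R ≤ P) (k : Cen R) :
    (redLA M _ (D.jR R)).coeff k = (redLA M G D.idm).coeff (k : G) := by
  rw [← coeff_emb (Cen R) (redLA M _ (D.jR R)) k, (D.jR_spec hR).2.1, coeff_br, if_pos k.2]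

theorem Hyp.jR_mul_ridem {R : Subgroup G} (hR : R ≤ P) :
    redLA M _ (D.jR R) * ridem (D.bR_block hR) = redLA M _ (D.jR R) := by
  refine emb_injective (Cen R) ?_
  rw [map_mul, (D.jR_spec hR).2.1, ← gidem_eq_emb (D.bR_block hR)]
  exact D.idm_br hR

/-- The scalar of `R`. -/
def Hyp.nu (R : Subgroup G) : ℂ := ∑ k : Cen R, ((D.jR R).coeff k : ℂ) * (D.eta R : Cen R → ℂ) k

/-- The function `y ↦ χ (y i)`. -/
def Hyp.F (χ : IrrCharacter G) (y : P) : ℂ :=
  charLin (χ : G → ℂ) (MonoidAlgebra.single (y : G) 1 * toCA M G D.idm)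

theorem Hyp.isCharacter_F (χ : IrrCharacter G) : IsCharacter P (D.F χ) :=
  isCharacter_idem (isCharacter_of_isIrr χ.2) (i := toCA M G D.idm) (by rw [← map_mul, D.idm_sq]) fun w hw => by
    rw [← toCA_single_one (M := M) w]
    exact (D.idm_comm hw).map (toCA M G)

/-- The base character of `bR Q` as a function on `G`. -/
def Hyp.theta (Q : Subgroup G) (g : G) : ℂ :=
  if h : g ∈ Cen Q then (D.eta Q : Cen Q → ℂ) ⟨g, h⟩ else 0

theorem Hyp.isCharacter_theta {Q R : Subgroup G} (h : Q ≤ R) :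
    IsCharacter (Cen R) fun k : Cen R => D.theta Q (k : G) := by
  have hle : Cen R ≤ Cen Q := centralizer_anti h
  have h1 := isCharacter_comp (isCharacter_of_isIrr (D.eta Q).2) (Subgroup.inclusion hle)
  have h2 : (fun k : Cen R => D.theta Q (k : G)) = fun k => (D.eta Q : Cen Q → ℂ) (Subgroup.inclusion hle k) :=
    funext fun k => dif_pos (hle k.2)
  rw [h2]; exact h1

theorem Hyp.F_eval {y : P} (hy : y ≠ 1) (χ : IrrCharacter G) :
    D.F χ y = coef (D.bR (Subgroup.zpowers (y : G))) (χ : G → ℂ) (y : G) * D.nu (Subgroup.zpowers (y : G)) := by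
  have hR : Subgroup.zpowers (y : G) ≤ P := Subgroup.zpowers_le.mpr y.2
  have hne : Subgroup.zpowers (y : G) ≠ ⊥ := Subgroup.zpowers_ne_bot.mpr fun h => hy (Subtype.ext h)
  obtain ⟨hj, hje, -⟩ := D.jR_spec hR
  have hyC : (y : G) ∈ Cen (Subgroup.zpowers (y : G)) := D.le_cen hR y.2
  rw [Hyp.F, ← toCA_single_one (M := M) (y : G), ← map_mul, Hyp.nu]
  exact eval_idem D.hM (exists_pow_of_mem D.isPGroup y.2) (isClassFunction_of_isIrr χ.2) D.idm_sq
    (D.idm_comm y.2) hj hje.symm (D.bR_block hR) (D.jR_mul_ridem hR) (isClassFunction_of_isIrr (D.eta _).2)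
    fun k hk => blockPart_coef (Subgroup.mem_zpowers _) hyC
      (isClassFunction_of_isCharacter (isCharacter_res _ (isCharacter_of_isIrr χ.2))) (D.eta_good hR hne).2.2.1 hk

/-- The function `y ↦ η_Q (y i_Q)`. -/
def Hyp.Gf (Q : Subgroup G) (y : P) : ℂ :=
  if h : Q ≤ P then charLin (D.eta Q : Cen Q → ℂ)
    (toCA M (Cen Q) (MonoidAlgebra.single (⟨(y : G), D.le_cen h y.2⟩ : Cen Q) 1 * D.jR Q)) else 0

theorem Hyp.isCharacter_Gf {Q : Subgroup G} (hQ : Q ≤ P) : IsCharacter P (D.Gf Q) := by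
  obtain ⟨hj, -, hjc⟩ := D.jR_spec hQ
  have h := isCharacter_idem (isCharacter_of_isIrr (D.eta Q).2) (S := P.subgroupOf (Cen Q))
    (i := toCA M (Cen Q) (D.jR Q)) (by rw [← map_mul, hj]) fun w hw => by
      rw [← toCA_single_one (M := M) w]
      exact (hjc w hw).map (toCA M (Cen Q))
  have h2 := isCharacter_comp h (Subgroup.subgroupOfEquivOfLe (D.le_cen hQ)).symm.toMonoidHom
  have h3 : D.Gf Q = fun y : P => charLin (D.eta Q : Cen Q → ℂ)
      (MonoidAlgebra.single (((Subgroup.subgroupOfEquivOfLe (D.le_cen hQ)).symm y : P.subgroupOf (Cen Q)) : Cen Q) 1 *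
        toCA M (Cen Q) (D.jR Q)) := funext fun y => by
    rw [Hyp.Gf, dif_pos hQ, map_mul, toCA_single_one]
    rfl
  rw [h3]; exact h2

set_option maxHeartbeats 2000000 in
/-- **The local value.** -/
theorem Hyp.Gf_eval {Q : Subgroup G} (hQ : Q ≤ P) (hne : Q ≠ ⊥) (y : P) :
    D.Gf Q y = coef (D.bR (Q ⊔ Subgroup.zpowers (y : G))) (D.theta Q) (y : G) *
        D.nu (Q ⊔ Subgroup.zpowers (y : G)) ∧
      coef (D.bR (Q ⊔ Subgroup.zpowers (y : G))) (D.theta Q) (y : G) *
        conj (coef (D.bR (Q ⊔ Subgroup.zpowers (y : G))) (D.theta Q) (y : G)) = 1 := by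
  have hM := D.hM
  have hP := D.hmax.1.1
  obtain ⟨R, hRd⟩ : ∃ R : Subgroup G, R = Q ⊔ Subgroup.zpowers (y : G) := ⟨_, rfl⟩
  rw [← hRd]
  have hQR : Q ≤ R := hRd ▸ le_sup_left
  have hyR : (y : G) ∈ R := hRd ▸ le_sup_right (a := Q) (Subgroup.mem_zpowers _)
  have hR : R ≤ P := hRd ▸ sup_le hQ (Subgroup.zpowers_le.mpr y.2)
  have hneR : R ≠ ⊥ := fun h => hne (le_bot_iff.mp (h ▸ hQR))
  have hyC : (y : G) ∈ Cen R := D.le_cen hR y.2
  have hPCQ : P ≤ Cen Q := D.le_cen hQ
  obtain ⟨y', hy'⟩ : ∃ y' : P.subgroupOf (Cen Q), y' = ⟨⟨(y : G), hPCQ y.2⟩, y.2⟩ := ⟨_, rfl⟩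
  have hyG : ((y' : Cen Q) : G) = (y : G) := by rw [hy']
  have hK : (Cen (Subgroup.zpowers (y' : Cen Q))).map (Cen Q).subtype = Cen R := by
    ext g
    constructor
    · rintro ⟨k, hk, rfl⟩
      rw [hRd]
      refine Subgroup.mem_centralizer_iff.mpr fun r hr => ?_
      have hle : Q ⊔ Subgroup.zpowers (y : G) ≤ Subgroup.centralizer ({((k : Cen Q) : G)} : Set G) := by
        refine sup_le (fun q hq => Subgroup.mem_centralizer_singleton_iff.mpr
          (Subgroup.mem_centralizer_iff.mp k.2 q hq)) (Subgroup.zpowers_le.mpr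
          (Subgroup.mem_centralizer_singleton_iff.mpr ?_))
        have h := congrArg Subtype.val (Subgroup.mem_centralizer_iff.mp hk _ (Subgroup.mem_zpowers _))
        rw [Subgroup.coe_mul, Subgroup.coe_mul, hyG] at h
        exact h
      exact Subgroup.mem_centralizer_singleton_iff.mp (hle hr)
    · intro hg
      refine ⟨⟨g, centralizer_anti hQR hg⟩, NilBlock.mem_cen_zpowers.mpr (Subtype.ext ?_), rfl⟩
      rw [Subgroup.coe_mul, Subgroup.coe_mul, hyG]
      exact (Subgroup.mem_centralizer_iff.mp hg (y : G) hyR).symm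
  let ε : Cen (Subgroup.zpowers (y' : Cen Q)) ≃* Cen R :=
    ((Cen (Subgroup.zpowers (y' : Cen Q))).equivMapOfInjective (Cen Q).subtype
      (Cen Q).subtype_injective).trans (MulEquiv.subgroupCongr hK)
  have hεc : ∀ k, ((ε k : Cen R) : G) = ((k : Cen Q) : G) := fun k => rfl
  -- the setup inside `C(Q)`
  have hbQ := D.bR_block hQ
  have hI := D.bR_inertOne hQ hne
  obtain ⟨c', hc'b, hu, hiff⟩ := inducedIn_setup (M := M) (Q := Q) hQ hPCQ hP.2
  have hP'p : IsPGroup p (P.subgroupOf (Cen Q)) :=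
    D.isPGroup.of_equiv (Subgroup.subgroupOfEquivOfLe hPCQ).symm
  have hpair' : IsBrauerPairOf p M (D.bR Q) (P.subgroupOf (Cen Q)) c' :=
    (brauerPairOf_iff_induced hM hP'p hc'b hbQ).mpr
      ((hiff (D.bR Q)).mp (inducedIn_of_subpair hM hQ hPCQ hP (D.bR_le hQ)))
  have hmax' : IsMaximalBrauerPair p M (D.bR Q) (P.subgroupOf (Cen Q)) c' := isMaximal_of_card hM hpair' (by
    rw [← card_defectGroup hM hbQ (pairs_defect hM D.hmax D.hab (D.bR_le hQ))])
  obtain ⟨β', S⟩ := NilBlock.exists_setup hM hmax' (Cyclic.isNilpotentBlock_of_inertOne hM hbQ hI)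
    fun K _ _ _ => blockRank_eq_one_of_nilpotent hM K
  have hb' := (S.pairOf y').1
  have hab' : ∀ a b : P.subgroupOf (Cen Q), a * b = b * a := fun a b =>
    Subtype.ext (Subtype.ext (D.hab _ a.2 _ b.2))
  have hu' : Up (M := M) (⟨Subgroup.zpowers (y' : Cen Q), β' y'⟩ : BrauerPairIdx (Cen Q))
      (⟨R, tblock ε (β' y')⟩ : BrauerPairIdx G) :=
    ⟨hK, gidem_of_coeff _ _ hK _ _ fun k hk => by rw [← blockCoeff_tblock ε (β' y') k]; rfl⟩
  have hbeq : tblock ε (β' y') = D.bR R := by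
    have hbp : IsBrauerPair p M R (tblock ε (β' y')) := ⟨D.isPGroup.to_le hR, isPBlock_tblock ε hb'.2⟩
    have hn0 : NormalSubpairRel p M (⟨Subgroup.zpowers (y' : Cen Q), β' y'⟩ : BrauerPairIdx (Cen Q))
        ⟨P.subgroupOf (Cen Q), c'⟩ :=
      normal_of_subpair hM hmax'.1.1 (Q := Subgroup.zpowers (y' : Cen Q)) (f := β' y') (S.hβ y')
        (le_trans (fun v hv => Subgroup.mem_centralizer_iff.mpr fun q hq =>
          congrArg Subtype.val (hab' ⟨q, (Subgroup.zpowers_le.mpr y'.2) hq⟩ ⟨v, hv⟩))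
          (Subgroup.centralizer_le_normalizer _))
    have hn : NormalSubpairRel p M ⟨R, tblock ε (β' y')⟩ ⟨P, c⟩ :=
      normal_up hM hn0 hu' hu hbp hP hR ((D.le_cen hR).trans (Subgroup.centralizer_le_normalizer _))
        (fun v hv => (centralIn_gidem _).2 v (D.le_cen hR hv))
    exact subpair_eq hM hP (Relation.ReflTransGen.single hn) (D.bR_le hR)
  rw [hbeq] at hu'
  -- the part on the section
  obtain ⟨η', hη'⟩ : ∃ η' : Cen (Subgroup.zpowers (y' : Cen Q)) → ℂ,
      η' = fun k => (D.eta R : Cen R → ℂ) (ε k) := ⟨_, rfl⟩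
  have hsec : ∀ k, ¬ p ∣ orderOf k → secH (y' : Cen Q) (Cen (Subgroup.zpowers (y' : Cen Q))) (β' y') (D.eta Q) k =
      coef (D.bR R) (D.theta Q) (y : G) * η' k := by
    intro k hk
    have h1 : secH (y' : Cen Q) (Cen (Subgroup.zpowers (y' : Cen Q))) (β' y') (D.eta Q) k =
        blockPart (D.bR R) (fun s : Cen R => D.theta Q ((y : G) * (s : G))) (ε k) := by
      rw [← hbeq, Cyclic.blockPart_tblock, secH]
      congr 1
      funext s
      rw [hεc, ← hyG, ← Subgroup.coe_mul, Hyp.theta, dif_pos ((y' : Cen Q) * (s : Cen Q)).2]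
    rw [h1, hη', blockPart_coef hyR hyC (isClassFunction_of_isCharacter (D.isCharacter_theta hQR))
      (D.eta_good hR hneR).2.2.1 (by rwa [MulEquiv.orderOf_eq])]
  constructor
  · -- the value
    obtain ⟨j', hj'⟩ : ∃ j' : LA M (Cen (Subgroup.zpowers (y' : Cen Q))),
        j' = MonoidAlgebra.mapDomainRingEquiv (locRing M) ε.symm (D.jR R) := ⟨_, rfl⟩
    have hj'c : ∀ k, j'.coeff k = (D.jR R).coeff (ε k) := fun k => by
      rw [hj']
      conv_lhs => rw [← ε.symm_apply_apply k]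
      exact Finsupp.mapDomain_apply ε.symm.injective (D.jR R).coeff (ε k)
    have hj'j : j' * j' = j' := by rw [hj', ← map_mul, (D.jR_spec hR).1]
    have hEj : emb (Cen Q) (emb (Cen (Subgroup.zpowers (y' : Cen Q))) (redLA M _ j')) =
        br R (redLA M G D.idm) := by
      refine ext_coeff fun g => ?_
      rw [coeff_br]
      by_cases hg : g ∈ Cen R
      · rw [if_pos hg]
        have h1 : g = ((((ε.symm ⟨g, hg⟩ : Cen (Subgroup.zpowers (y' : Cen Q))) : Cen Q)) : G) := by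
          rw [← hεc, MulEquiv.apply_symm_apply]
        rw [h1, coeff_emb, coeff_emb, coeff_redLA, hj'c, ← coeff_redLA, D.redLA_jR_coeff hR, hεc]
      · rw [if_neg hg]
        by_cases hgQ : g ∈ Cen Q
        · rw [show g = ((⟨g, hgQ⟩ : Cen Q) : G) from rfl, coeff_emb, coeff_emb_of_notMem]
          intro h
          exact hg (hK ▸ ⟨_, h, rfl⟩)
        · rw [coeff_emb_of_notMem _ _ hgQ]
    have hij : br (Subgroup.zpowers (y' : Cen Q)) (redLA M (Cen Q) (D.jR Q)) =
        emb (Cen (Subgroup.zpowers (y' : Cen Q))) (redLA M _ j') := by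
      refine emb_injective (Cen Q) (ext_coeff fun g => ?_)
      rw [hEj, coeff_br]
      by_cases hgQ : g ∈ Cen Q
      · rw [show g = ((⟨g, hgQ⟩ : Cen Q) : G) from rfl, coeff_emb, coeff_br]
        refine if_congr ?_ (D.redLA_jR_coeff hQ _) rfl
        show _ ↔ _ ∈ Cen R
        rw [← hK]
        exact (Subgroup.mem_map_iff_mem (Cen Q).subtype_injective).symm
      · rw [coeff_emb_of_notMem _ _ hgQ, if_neg fun h => hgQ (centralizer_anti hQR h)]
    have hjb : redLA M _ j' * ridem hb'.2 = redLA M _ j' := by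
      refine emb_injective _ (emb_injective (Cen Q) ?_)
      rw [map_mul, map_mul, hEj]
      have h2 : emb (Cen Q) (emb (Cen (Subgroup.zpowers (y' : Cen Q))) (ridem hb'.2)) = pid M ⟨R, D.bR R⟩ := by
        rw [← gidem_eq_emb hb'.2]
        exact hu'.pid_eq.symm
      rw [h2]
      exact D.idm_br hR
    have hη'c : IsClassFunction (Cen (Subgroup.zpowers (y' : Cen Q))) η' := fun a b => by
      rw [hη']
      simp only [map_mul, map_inv]
      exact isClassFunction_of_isIrr (D.eta R).2 _ _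
    have hu₁ : ∃ k : ℕ, orderOf (y' : Cen Q) = p ^ k := exists_pow_of_mem hP'p y'.2
    rw [Hyp.Gf, dif_pos hQ,
      show (⟨(y : G), D.le_cen hQ y.2⟩ : Cen Q) = (y' : Cen Q) from Subtype.ext hyG.symm,
      eval_idem hM hu₁ (isClassFunction_of_isIrr (D.eta Q).2) (D.jR_spec hQ).1
        ((D.jR_spec hQ).2.2 (y' : Cen Q) (by rw [hyG]; exact y.2)) hj'j hij hb'.2 hjb hη'c hsec]
    congr 1
    refine Fintype.sum_equiv ε.toEquiv _ _ fun k => ?_
    rw [hj'c, hη', MulEquiv.toEquiv_eq_coe, EquivLike.coe_coe]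
  · -- the norm
    obtain ⟨hηQ, hh, -, -⟩ := D.eta_good hQ hne
    have h1 := S.self_eq_one hηQ hh y'
    rw [cc, ctr] at h1
    have hd : blockDefect p (β' y') = blockDefect p (D.bR R) := by
      rw [← hbeq, Cyclic.blockDefect_tblock']
    rw [hd, Nat.card_congr ε.toEquiv] at h1
    have h2 : regSum p (secH (y' : Cen Q) (Cen (Subgroup.zpowers (y' : Cen Q))) (β' y') (D.eta Q))
        (secH (y' : Cen Q) (Cen (Subgroup.zpowers (y' : Cen Q))) (β' y') (D.eta Q)) =
        coef (D.bR R) (D.theta Q) (y : G) * conj (coef (D.bR R) (D.theta Q) (y : G)) *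
          regSum p (D.eta R : Cen R → ℂ) (D.eta R : Cen R → ℂ) := by
      rw [regSum_eq, regSum_eq, Finset.mul_sum]
      refine Fintype.sum_equiv ε.toEquiv _ _ fun k => ?_
      simp only [MulEquiv.toEquiv_eq_coe, EquivLike.coe_coe, MulEquiv.orderOf_eq]
      split_ifs with hk
      · rw [mul_zero]
      · rw [hsec k hk, hη', map_mul]; ring
    rw [h2] at h1
    have h4 := (D.eta_good hR hneR).2.2.2
    linear_combination h1 - coef (D.bR R) (D.theta Q) (y : G) *
      conj (coef (D.bR R) (D.theta Q) (y : G)) * h4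

end CfsgLib.Blocks.FreeInertia
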